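import Groth.Agent.CohBase.FlatBC.TensorSec
import Groth.Agent.CohBase.SecComplex
import Groth.Agent.DerivedCoh.KFlat.SchemePullback
import Mathlib.CategoryTheory.Functor.ReflectsIso.Exact

/-!
# Exactness of `M ↦ P ⊗ h^* M` for `P` flat over the base
-/

universe u

open CategoryTheory Limits AlgebraicGeometry TopologicalSpace Opposite MonoidalCategory

namespace Groth.CohBase.FlatBC

section Desc

universe v w

variable {C : Type w} [Category.{v} C] [Abelian C]

/-- A resolution maps to an injective one, lifting a morphism of the resolved objects. -/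
theorem exists_desc {Z Y : C} (f : Z ⟶ Y) (J : InjectiveResolution Y) (K : CochainComplex C ℕ)
    (ι : Z ⟶ K.X 0) [Mono ι] (w₀ : ι ≫ K.d 0 1 = 0) (h₀ : (ShortComplex.mk ι (K.d 0 1) w₀).Exact)
    (h : ∀ n, (ShortComplex.mk (K.d n (n + 1)) (K.d (n + 1) (n + 2)) (K.d_comp_d _ _ _)).Exact) :
    ∃ φ : K ⟶ J.cocomplex, ι ≫ φ.f 0 = f ≫ resι J := by
  have := J.injective
  let a : K.X 0 ⟶ J.cocomplex.X 0 := Injective.factorThru (f ≫ resι J) ι
  have ha : ι ≫ a = f ≫ resι J := Injective.comp_factorThru _ _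
  let b : K.X 1 ⟶ J.cocomplex.X 1 := h₀.descToInjective (a ≫ J.cocomplex.d 0 1)
    (by rw [reassoc_of% ha, resι_d, comp_zero])
  refine ⟨CochainComplex.mkHom _ _ a b (h₀.comp_descToInjective _ _).symm
    fun n ⟨g, g', hw⟩ => ⟨(h n).descToInjective (g' ≫ J.cocomplex.d (n + 1) (n + 2))
      (by rw [← reassoc_of% hw, J.cocomplex.d_comp_d, comp_zero]),
      ((h n).comp_descToInjective _ _).symm⟩, ?_⟩
  exact ha

end Desc

variable {X Z : Scheme.{u}} (g' : Z ⟶ X) (P : Z.Modules)

instance : (tPull g' P).Additive := by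
  have : ((DCoh.tensorBi (X := Z)).obj P).Additive := inferInstance
  infer_instance

/-- Exactness of `M ↦ P ⊗ g'^* M`. -/
theorem exact_tPull (hP : FlatMod.IsFlatOver g' P) {T : ShortComplex X.Modules} (hT : T.Exact) :
    (T.map (tPull g' P)).Exact := by
  rw [DerivedCoh.KFlat.stk_jointly.exact_iff]
  intro x
  let φ := (g'.stalkMap x).hom
  let N := (ModuleCat.restrictScalars φ).obj ((DerivedCoh.KFlat.stk x).obj P)
  have : Module.Flat (X.presheaf.stalk (g' x)) N := hP x
  rw [← ShortComplex.exact_map_iff_of_faithful _ (ModuleCat.restrictScalars φ)]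
  refine (ShortComplex.exact_iff_of_iso
    (T.mapNatIso (DerivedCoh.KFlat.tensorPullStkIso g' x P))).2 ?_
  exact (hT.map (DerivedCoh.KFlat.stk (g' x))).map (tensorLeft N)

lemma mono_tPull (hP : FlatMod.IsFlatOver g' P) {M N : X.Modules} (ι : M ⟶ N) [Mono ι] :
    Mono ((tPull g' P).map ι) := by
  let T : ShortComplex X.Modules := ShortComplex.mk (0 : M ⟶ M) ι zero_comp
  have h := exact_tPull g' P hP (T := T) ((T.exact_iff_mono rfl).2 ‹_›)
  exact ((T.map (tPull g' P)).exact_iff_mono ((tPull g' P).map_zero _ _)).1 h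

variable {M : X.Modules} (I : InjectiveResolution M)

/-- The complex `P ⊗ g'^* I`. -/
noncomputable abbrev tCx : CochainComplex Z.Modules ℕ :=
  ((tPull g' P).mapHomologicalComplex (ComplexShape.up ℕ)).obj I.cocomplex

/-- A map to an injective resolution of `P ⊗ g'^* M`. -/
theorem exists_tPull_desc (hP : FlatMod.IsFlatOver g' P)
    (J : InjectiveResolution ((tPull g' P).obj M)) :
    ∃ φ : tCx g' P I ⟶ J.cocomplex, (tPull g' P).map (resι I) ≫ φ.f 0 = resι J := by
  have : Mono (resι I) := inferInstanceAs (Mono (I.ι.f 0))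
  have := mono_tPull g' P hP (resι I)
  obtain ⟨φ, hφ⟩ := @exists_desc _ _ _ _ _ (𝟙 _) J (tCx g' P I) ((tPull g' P).map (resι I)) this
    (by change (tPull g' P).map _ ≫ (tPull g' P).map _ = 0
        rw [← Functor.map_comp, resι_d, Functor.map_zero])
    (exact_tPull g' P hP (T := ShortComplex.mk (resι I) (I.cocomplex.d 0 1) (resι_d I))
      (resι_exact I))
    (fun n => exact_tPull g' P hP (T := ShortComplex.mk (I.cocomplex.d n (n + 1))
      (I.cocomplex.d (n + 1) (n + 2)) (I.cocomplex.d_comp_d _ _ _)) (I.exact_succ n))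
  exact ⟨φ, hφ.trans (Category.id_comp _)⟩

end Groth.CohBase.FlatBC
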