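import Groth.Agent.CohBase.FlatBC.QCQS
import Groth.Agent.CohBase.RpushSections
import Groth.Agent.CohTwo.Glue
import Groth.Agent.QCohMod.ClosedImm
import Groth.Agent.S1391

/-!
# Base change of higher direct images, tensored with a flat module
-/

universe u

open CategoryTheory Limits AlgebraicGeometry TopologicalSpace Opposite
open scoped TensorProduct
open Groth.QCohMod (res_app)

namespace Groth.CohBase.FlatBC

/-- A morphism which is bijective on arbitrarily small opens is an isomorphism. -/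
theorem isIso_of_local_bijective {Y : Scheme.{u}} {A B : Y.Modules} (γ : A ⟶ B)
    (h : ∀ (x : Y) (W : Y.Opens), x ∈ W → ∃ W' ≤ W, x ∈ W' ∧ Function.Bijective (γ.app W')) :
    IsIso γ := by
  refine QCohMod.isIso_of_stalk γ fun x ↦ (ConcreteCategory.isIso_iff_bijective _).mpr ⟨?_, fun t ↦ ?_⟩
  · refine (injective_iff_map_eq_zero ((QCohMod.stalk x).map γ).hom).mpr fun s hs ↦ ?_
    obtain ⟨O, hxO, m, rfl⟩ := QCohMod.exists_germ A x s
    have hs' : QCohMod.germ B x hxO (γ.app O m) = 0 := (QCohMod.stalk_map_germ γ x hxO m).symm.trans hs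
    obtain ⟨W, hxW, i, i', hW⟩ := TopCat.Presheaf.germ_eq B.presheaf x hxO hxO (γ.app O m) 0
      (hs'.trans (map_zero (QCohMod.germ B x hxO)).symm)
    obtain ⟨W', hle, hxW', hb⟩ := h x W hxW
    rw [← QCohMod.germ_res A (hle.trans i.le) x hxW' m]
    suffices QCohMod.res A (hle.trans i.le) m = 0 by rw [this]; exact map_zero _
    apply hb.1
    have hz : QCohMod.res B i.le (γ.app O m) = 0 := hW.trans (map_zero (B.presheaf.map i'.op).hom)
    rw [map_zero, ← res_app, ← QCohMod.res_res B i.le hle, hz, map_zero]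
  · obtain ⟨O, hxO, n, rfl⟩ := QCohMod.exists_germ B x t
    obtain ⟨W', hle, hxW', hb⟩ := h x O hxO
    obtain ⟨m, hm⟩ := hb.2 (QCohMod.res B hle n)
    exact ⟨QCohMod.germ A x hxW' m, (QCohMod.stalk_map_germ γ x hxW' m).trans
      (by rw [hm, QCohMod.germ_res])⟩

variable {X S X' S' : Scheme.{u}} {f : X ⟶ S} {g : S' ⟶ S} {g' : X' ⟶ X} {f' : X' ⟶ S'}
  (sq : IsPullback g' f' f g) (G : S'.Modules)
  {M : X.Modules} (I : InjectiveResolution M)
  (J : InjectiveResolution ((tPull g' ((Scheme.Modules.pullback f').obj G)).obj M))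
  (φ : tCx g' ((Scheme.Modules.pullback f').obj G) I ⟶ J.cocomplex) (p : ℕ)
  {V V₂ : S.Opens} {V' V'₂ : S'.Opens} (e : V' ≤ g ⁻¹ᵁ V) (e₂ : V'₂ ≤ g ⁻¹ᵁ V₂)

include sq in
lemma preimage_le (e : V' ≤ g ⁻¹ᵁ V) : f' ⁻¹ᵁ V' ≤ g' ⁻¹ᵁ (f ⁻¹ᵁ V) :=
  (f'.preimage_mono e).trans (le_of_eq (by
    rw [← Scheme.Hom.comp_preimage, ← sq.w, Scheme.Hom.comp_preimage]))

variable (f) in
/-- Cocycles of sections, as a module over the base. -/
noncomputable abbrev cycA (V : S.Opens) :
    Submodule Γ(S, V) (secMod f (I.cocomplex.X p) (U := f ⁻¹ᵁ V) (V := V) le_rfl) :=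
  LinearMap.ker (secModMap f (I.cocomplex.d p (p + 1)) (le_refl (f ⁻¹ᵁ V)))

variable (f) in
/-- Cocycles over the base as cocycles. -/
noncomputable def toCyc (V : S.Opens) :
    cycA f I p V →+ (Res.ofInjective I).Cyc (f ⁻¹ᵁ V) p where
  toFun z := ⟨(show Γ(I.cocomplex.X p, f ⁻¹ᵁ V) from z.1), z.2⟩
  map_zero' := rfl
  map_add' _ _ := rfl

lemma toCyc_smul {V : S.Opens} (r : Γ(S, V)) (z : cycA f I p V) :
    toCyc f I p V (r • z) = (f.app V).hom r • toCyc f I p V z := by
  refine Subtype.ext ?_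
  have h : (f.appLE V (f ⁻¹ᵁ V) le_rfl).hom r = (f.app V).hom r := by
    rw [Scheme.Hom.app_eq_appLE]
  exact congrArg (fun c : Γ(X, f ⁻¹ᵁ V) => c • (show Γ(I.cocomplex.X p, f ⁻¹ᵁ V) from z.1)) h

variable (f) in
/-- The class in the higher direct image, linear over the base. -/
noncomputable def θA (V : S.Opens) :
    cycA f I p V →ₗ[Γ(S, V)] Γ((pushCx f I).homology p, V) where
  toFun z := θH f I p V (toCyc f I p V z)
  map_add' a b := by rw [map_add, map_add]
  map_smul' r z := by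
    rw [toCyc_smul]
    exact θH_smul f I p V r _

lemma θA_surjective [QuasiCompact f] [QuasiSeparated f] [M.IsQuasicoherent]
    (hV : IsAffineOpen V) : Function.Surjective (θA f I p V) := fun s => by
  obtain ⟨z, hz⟩ := θH_surjective f I p hV s
  exact ⟨⟨z.1, z.2⟩, hz⟩

lemma θA_apply (z : cycA f I p V) : θA f I p V z = θH f I p V (toCyc f I p V z) := rfl

/-- The source comparison. -/
noncomputable def σ : secMod g G e ⊗[Γ(S, V)] cycA f I p V →+
    Γ((tPull g G).obj ((pushCx f I).homology p), V') :=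
  (tSecLift g G ((pushCx f I).homology p) e).comp
    ((θA f I p V).lTensor (secMod g G e)).toAddMonoidHom

lemma σ_tmul (a : secMod g G e) (c : cycA f I p V) :
    σ G I p e (a ⊗ₜ c) = tSec g G ((pushCx f I).homology p) e (show Γ(G, V') from a)
      (θH f I p V (toCyc f I p V c)) := rfl

/-- The values of the comparison of cocycles. -/
noncomputable def cycVal : secMod g G e ⊗[Γ(S, V)] cycA f I p V →+
    Γ(J.cocomplex.X p, f' ⁻¹ᵁ V') :=
  ((φ.f p).app (f' ⁻¹ᵁ V')).hom.comp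
    ((τ sq.w G (I.cocomplex.X p) e (le_refl _) (preimage_le sq e) le_rfl).comp
      ((cycA f I p V).subtype.lTensor (secMod g G e)).toAddMonoidHom)

lemma lTensor_d_subtype (y : secMod g G e ⊗[Γ(S, V)] cycA f I p V) :
    (secModMap f (I.cocomplex.d p (p + 1)) le_rfl).lTensor (secMod g G e)
      ((cycA f I p V).subtype.lTensor (secMod g G e) y) = 0 := by
  rw [← LinearMap.lTensor_comp_apply, LinearMap.comp_ker_subtype, LinearMap.lTensor_zero,
    LinearMap.zero_apply]

lemma cycVal_mem (y : secMod g G e ⊗[Γ(S, V)] cycA f I p V) :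
    cycVal sq G I J φ p e y ∈ (Res.ofInjective J).Cyc (f' ⁻¹ᵁ V') p := by
  let x := (cycA f I p V).subtype.lTensor (secMod g G e) y
  let c := cmap sq G e I J φ (le_refl _) (preimage_le sq e) le_rfl
  have h : (evCx J (f' ⁻¹ᵁ V')).d p (p + 1) (c.f p x) = 0 := by
    rw [← hom_d_apply]
    exact (congrArg (c.f (p + 1)) (lTensor_d_subtype G I p e y)).trans (map_zero _)
  exact h

/-- The comparison of cocycles. -/
noncomputable def cycMap : secMod g G e ⊗[Γ(S, V)] cycA f I p V →+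
    (Res.ofInjective J).Cyc (f' ⁻¹ᵁ V') p where
  toFun y := ⟨cycVal sq G I J φ p e y, cycVal_mem sq G I J φ p e y⟩
  map_zero' := Subtype.ext (map_zero (cycVal sq G I J φ p e))
  map_add' a b := Subtype.ext (map_add (cycVal sq G I J φ p e) a b)

lemma cycMap_coe (y : secMod g G e ⊗[Γ(S, V)] cycA f I p V) :
    (cycMap sq G I J φ p e y).1 = (φ.f p).app (f' ⁻¹ᵁ V')
      (τ sq.w G (I.cocomplex.X p) e (le_refl _) (preimage_le sq e) le_rfl
        ((cycA f I p V).subtype.lTensor (secMod g G e) y)) := rfl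

/-- The target comparison. -/
noncomputable def ν : secMod g G e ⊗[Γ(S, V)] cycA f I p V →+
    Γ((pushCx f' J).homology p, V') :=
  (θH f' J p V').comp (cycMap sq G I J φ p e)

/-- Restriction of cocycles over the base. -/
noncomputable def cycResA (hV : V₂ ≤ V) : cycA f I p V →+ cycA f I p V₂ where
  toFun c := ⟨(show secMod f (I.cocomplex.X p) (le_refl (f ⁻¹ᵁ V₂)) from
      QCohMod.res (I.cocomplex.X p) (f.preimage_mono hV) (toCyc f I p V c).1),
    Res.res_mem_cyc (R := Res.ofInjective I) (f.preimage_mono hV) (toCyc f I p V c).2⟩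
  map_zero' := Subtype.ext (map_zero (QCohMod.res (I.cocomplex.X p) (f.preimage_mono hV)))
  map_add' a b := Subtype.ext (map_add (QCohMod.res (I.cocomplex.X p) (f.preimage_mono hV))
    (toCyc f I p V a).1 (toCyc f I p V b).1)

lemma cycResA_smul (hV : V₂ ≤ V) (r : Γ(S, V)) (c : cycA f I p V) :
    cycResA I p hV (r • c) = QCohMod.resFun S hV r • cycResA I p hV c := by
  have h : toCyc f I p V₂ (cycResA I p hV (r • c)) =
      toCyc f I p V₂ (QCohMod.resFun S hV r • cycResA I p hV c) := by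
    rw [toCyc_smul]
    refine Subtype.ext ?_
    change QCohMod.res (I.cocomplex.X p) (f.preimage_mono hV) (toCyc f I p V (r • c)).1 = _
    rw [toCyc_smul]
    refine (QCohMod.res_smul (I.cocomplex.X p) _ _ _).trans ?_
    have hr : QCohMod.resFun X (f.preimage_mono hV) ((f.app V).hom r) =
        (f.app V₂).hom (QCohMod.resFun S hV r) :=
      (ConcreteCategory.congr_hom (f.naturality (homOfLE hV).op) r).symm
    exact congrArg (fun c' : Γ(X, f ⁻¹ᵁ V₂) => c' • QCohMod.res (I.cocomplex.X p)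
      (f.preimage_mono hV) (toCyc f I p V c).1) hr
  exact Subtype.ext (congrArg Subtype.val h :)

/-- Restriction of the tensors. -/
noncomputable def cycTenRes (hV : V₂ ≤ V) (hV' : V'₂ ≤ V') :
    secMod g G e ⊗[Γ(S, V)] cycA f I p V →+ secMod g G e₂ ⊗[Γ(S, V₂)] cycA f I p V₂ :=
  TensorProduct.liftAddHom
    (AddMonoidHom.mk' (fun a => AddMonoidHom.mk'
        (fun c => (show secMod g G e₂ from QCohMod.res G hV' (show Γ(G, V') from a)) ⊗ₜ[Γ(S, V₂)]
          cycResA I p hV c)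
        fun c c' => by rw [map_add, TensorProduct.tmul_add])
      fun a a' => AddMonoidHom.ext fun c => by
        refine Eq.trans ?_ (TensorProduct.add_tmul _ _ _)
        exact congrArg (· ⊗ₜ _) (map_add (QCohMod.res G hV') _ _))
    fun r a c => by
      change (show secMod g G e₂ from
          QCohMod.res G hV' (g.appLE V V' e r • (show Γ(G, V') from a))) ⊗ₜ[Γ(S, V₂)]
          cycResA I p hV c = _ ⊗ₜ[Γ(S, V₂)] cycResA I p hV (r • c)
      rw [QCohMod.res_smul, resFun_appLE g e e₂ hV hV', cycResA_smul]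
      exact TensorProduct.smul_tmul (QCohMod.resFun S hV r) _ _

lemma σ_res (hV : V₂ ≤ V) (hV' : V'₂ ≤ V') (y : secMod g G e ⊗[Γ(S, V)] cycA f I p V) :
    QCohMod.res _ hV' (σ G I p e y) = σ G I p e₂ (cycTenRes G I p e e₂ hV hV' y) := by
  induction y using TensorProduct.induction_on with
  | zero => simp
  | tmul a c =>
    rw [σ_tmul, tSec_res g G _ e e₂ hV hV']
    refine Eq.trans ?_ (σ_tmul G I p e₂ _ _).symm
    exact congrArg (tSec g G _ e₂ _) (θH_res f I p hV (toCyc f I p V c))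
  | add a b ha hb => simp only [map_add, ha, hb]

lemma ν_res (hV : V₂ ≤ V) (hV' : V'₂ ≤ V') (y : secMod g G e ⊗[Γ(S, V)] cycA f I p V) :
    QCohMod.res _ hV' (ν sq G I J φ p e y) =
      ν sq G I J φ p e₂ (cycTenRes G I p e e₂ hV hV' y) := by
  refine (θH_res f' J p hV' _).trans (congrArg (θH f' J p V'₂) (Subtype.ext ?_))
  refine Eq.trans ?_ (cycMap_coe sq G I J φ p e₂ _).symm
  change QCohMod.res (J.cocomplex.X p) (f'.preimage_mono hV') ((φ.f p).app (f' ⁻¹ᵁ V')
      (τ sq.w G (I.cocomplex.X p) e (le_refl _) (preimage_le sq e) le_rfl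
        ((cycA f I p V).subtype.lTensor (secMod g G e) y))) = _
  rw [res_app]
  congr 1
  refine (τ_res sq.w G (I.cocomplex.X p) e e₂ le_rfl le_rfl (preimage_le sq e) le_rfl
    (preimage_le sq e₂) le_rfl hV hV' (f.preimage_mono hV) (f'.preimage_mono hV') _).trans
    (congrArg _ ?_)
  induction y using TensorProduct.induction_on with
  | zero => simp
  | tmul a c => rfl
  | add a b ha hb => simp only [map_add, ha, hb]

/-- Multiplication on the first factor. -/
noncomputable def smulG (r : Γ(S', V')) : secMod g G e →ₗ[Γ(S, V)] secMod g G e where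
  toFun a := (show secMod g G e from r • (show Γ(G, V') from a))
  map_add' a b := smul_add r (show Γ(G, V') from a) (show Γ(G, V') from b)
  map_smul' c a := smul_comm r (g.appLE V V' e c) (show Γ(G, V') from a)

lemma σ_smul (r : Γ(S', V')) (y : secMod g G e ⊗[Γ(S, V)] cycA f I p V) :
    σ G I p e ((smulG G e r).rTensor _ y) = r • σ G I p e y := by
  induction y using TensorProduct.induction_on with
  | zero => simp
  | tmul a c =>
    rw [LinearMap.rTensor_tmul, σ_tmul, σ_tmul]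
    exact tSec_smul_left g G _ e r _ _
  | add a b ha hb => simp only [map_add, ha, hb, smul_add]

lemma ν_smul (r : Γ(S', V')) (y : secMod g G e ⊗[Γ(S, V)] cycA f I p V) :
    ν sq G I J φ p e ((smulG G e r).rTensor _ y) = r • ν sq G I J φ p e y := by
  refine Eq.trans (congrArg (θH f' J p V') (Subtype.ext ?_)) (θH_smul f' J p V' r _)
  refine (cycMap_coe sq G I J φ p e _).trans ?_
  change _ = (f'.app V').hom r • (φ.f p).app (f' ⁻¹ᵁ V')
    (τ sq.w G (I.cocomplex.X p) e (le_refl _) (preimage_le sq e) le_rfl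
      ((cycA f I p V).subtype.lTensor (secMod g G e) y))
  rw [← Scheme.Modules.Hom.app_smul]
  congr 1
  induction y using TensorProduct.induction_on with
  | zero => simp only [map_zero]; exact (smul_zero (A := Γ((tPull g' ((Scheme.Modules.pullback f').obj G)).obj (I.cocomplex.X p), f' ⁻¹ᵁ V')) ((f'.app V').hom r)).symm
  | tmul a c =>
    rw [LinearMap.rTensor_tmul, LinearMap.lTensor_tmul, LinearMap.lTensor_tmul, τ_tmul, τ_tmul]
    refine Eq.trans (congrArg (fun q => tSec g' _ (I.cocomplex.X p) _ q _)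
      (psec_smul f' G (le_refl (f' ⁻¹ᵁ V')) r (show Γ(G, V') from a))) ?_
    rw [← Scheme.Hom.app_eq_appLE]
    exact tSec_smul_left g' _ _ _ _ _ _
  | add a b ha hb => simp only [map_add, ha, hb]; exact (smul_add (A := Γ((tPull g' ((Scheme.Modules.pullback f').obj G)).obj (I.cocomplex.X p), f' ⁻¹ᵁ V')) ((f'.app V').hom r) _ _).symm

variable (hφ : (tPull g' ((Scheme.Modules.pullback f').obj G)).map (resι I) ≫ φ.f 0 = resι J)
  [G.IsQuasicoherent] [M.IsQuasicoherent] [QuasiCompact f] [QuasiSeparated f]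

/-- The comparison of cocycles vanishes where the class does. -/
theorem ν_eq_zero (hV : IsAffineOpen V) (hV' : IsAffineOpen V')
    (y : secMod g G e ⊗[Γ(S, V)] cycA f I p V) (hy : σ G I p e y = 0) :
    ν sq G I J φ p e y = 0 := by
  have := isQCoh_homology_pushCx f I p
  have h0 : (θA f I p V).lTensor (secMod g G e) y = 0 :=
    (tSecLift_bijective g G ((pushCx f I).homology p) e hV hV').1
      (hy.trans (map_zero _).symm)
  obtain ⟨x, rfl⟩ := (lTensor_exact (secMod g G e)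
    (LinearMap.exact_subtype_ker_map (θA f I p V)) (θA_surjective I p hV) y).1 h0
  clear hy h0
  induction x using TensorProduct.induction_on with
  | zero => simp
  | tmul a c =>
    have hc := θH_ker f I p hV (toCyc f I p V c.1) c.2
    have key : (show (tenCx f g G e I (le_refl (f ⁻¹ᵁ V))).X p from a ⊗ₜ c.1.1) ∈ bd _ p := by
      cases p with
      | zero =>
        rw [mem_bd_zero]
        change a ⊗ₜ[Γ(S, V)] c.1.1 = 0
        rw [show c.1.1 = 0 from (Res.mem_bd_zero (R := Res.ofInjective I)).1 hc,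
          TensorProduct.tmul_zero]
      | succ p =>
        obtain ⟨w, hw⟩ := hc
        exact ⟨a ⊗ₜ[Γ(S, V)] (show secMod f (I.cocomplex.X p) (le_refl (f ⁻¹ᵁ V)) from w),
          congrArg (a ⊗ₜ[Γ(S, V)] ·) hw⟩
    exact θH_eq_zero_of_bd f' J p (cycMap sq G I J φ p e (a ⊗ₜ c.1))
      ((mem_bd_evCx J _ p _).1
        (bd_map (cmap sq G e I J φ (le_refl _) (preimage_le sq e) le_rfl) key))
  | add a b ha hb => rw [map_add, map_add, ha, hb, add_zero]

section Bij

variable [QuasiCompact f'] [QuasiSeparated f']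

include hφ in
/-- Over affine opens both comparisons are surjective with the same kernel. -/
theorem σ_ν_affine (hV : IsAffineOpen V) (hV' : IsAffineOpen V')
    [Module.Flat Γ(S, V) (secMod g G e)] :
    Function.Surjective (σ G I p e : _ → Γ((tPull g G).obj ((pushCx f I).homology p), V')) ∧
      Function.Surjective (ν sq G I J φ p e) ∧
      ∀ y, ν sq G I J φ p e y = 0 → σ G I p e y = 0 := by
  have := isQCoh_homology_pushCx f I p
  have := QCohMod.isQCoh_pullback_obj f' G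
  have := isQCoh_tPull (M := M) g' ((Scheme.Modules.pullback f').obj G)
  have hQ := bcOn_of_isCompact sq G e I J φ hφ hV hV' le_rfl (f' ⁻¹ᵁ V') (preimage_le sq e)
    le_rfl (inf_eq_right.2 (preimage_le sq e)).symm
  have hsub : Function.Exact (cycA f I p V).subtype
      (secModMap f (I.cocomplex.d p (p + 1)) (le_refl (f ⁻¹ᵁ V))) :=
    LinearMap.exact_subtype_ker_map _
  refine ⟨(tSecLift_bijective g G ((pushCx f I).homology p) e hV hV').2.comp
    (LinearMap.lTensor_surjective _ (θA_surjective I p hV)), fun s => ?_, fun y hy => ?_⟩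
  · obtain ⟨t, rfl⟩ := θH_surjective f' J p hV' s
    obtain ⟨z, hz, hzt⟩ := hQ.surj p t.1 t.2
    obtain ⟨y, rfl⟩ := (Module.Flat.lTensor_exact (secMod g G e) hsub z).1 hz
    refine ⟨y, sub_eq_zero.1 ?_⟩
    rw [ν, AddMonoidHom.comp_apply, ← map_sub]
    exact θH_eq_zero_of_bd f' J p _ ((mem_bd_evCx J _ p _).1 hzt)
  · have hb := hQ.inj p ((cycA f I p V).subtype.lTensor (secMod g G e) y)
      ((Module.Flat.lTensor_exact (secMod g G e) hsub).apply_apply_eq_zero y)
      ((mem_bd_evCx J _ p _).2 (θH_ker f' J p hV' _ hy))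
    change tSecLift g G _ e ((θA f I p V).lTensor (secMod g G e) y) = 0
    refine (congrArg _ ?_).trans (map_zero _)
    have hi : Function.Injective ((cycA f I p V).subtype.lTensor (secMod g G e)) :=
      Module.Flat.lTensor_preserves_injective_linearMap _ Subtype.val_injective
    cases p with
    | zero =>
      rw [hi ((mem_bd_zero.1 hb).trans (map_zero _).symm), map_zero]
    | succ p =>
      obtain ⟨w, hw⟩ := hb
      let d' := LinearMap.codRestrict (cycA f I (p + 1) V)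
        (secModMap f (I.cocomplex.d p (p + 1)) (le_refl (f ⁻¹ᵁ V)))
        fun v => Res.d_d_app (R := Res.ofInjective I) p (f ⁻¹ᵁ V) v
      have hy' : y = d'.lTensor (secMod g G e) w := hi <| by
        rw [← LinearMap.lTensor_comp_apply, LinearMap.subtype_comp_codRestrict]
        exact hw.symm
      have hd' : (θA f I (p + 1) V).comp d' = 0 := LinearMap.ext fun v =>
        θH_eq_zero_of_bd f I (p + 1) _ ⟨v, rfl⟩
      rw [hy', ← LinearMap.lTensor_comp_apply, hd', LinearMap.lTensor_zero]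
      rfl

end Bij

section Main

variable (hGf : FlatMod.IsFlatOver g G)

include sq hφ hGf in
/-- The base change isomorphism for chosen resolutions. -/
theorem exists_iso_homology :
    Nonempty ((tPull g G).obj ((pushCx f I).homology p) ≅ (pushCx f' J).homology p) := by
  have : QuasiCompact f' := MorphismProperty.of_isPullback sq ‹QuasiCompact f›
  have : QuasiSeparated f' := MorphismProperty.of_isPullback sq ‹QuasiSeparated f›
  let T := (tPull g G).obj ((pushCx f I).homology p)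
  let H := (pushCx f' J).homology p
  have hflat : ∀ {V : S.Opens} {V' : S'.Opens} (e : V' ≤ g ⁻¹ᵁ V), IsAffineOpen V →
      IsAffineOpen V' → Module.Flat Γ(S, V) (secMod g G e) := fun {V V'} e hV hV' =>
    (Flatmor4.isFlatOver_iff_affine g G).1 hGf V' V e hV' hV
  let Wit (W : S'.Opens) (s : Γ(T, W)) (t : Γ(H, W)) (x : S') : Prop :=
    ∃ (V : S.Opens) (V' : S'.Opens) (_ : IsAffineOpen V) (_ : IsAffineOpen V')
      (e : V' ≤ g ⁻¹ᵁ V) (h : V' ≤ W) (y : secMod g G e ⊗[Γ(S, V)] cycA f I p V), x ∈ V' ∧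
      σ G I p e y = QCohMod.res T h s ∧ ν sq G I J φ p e y = QCohMod.res H h t
  have common : ∀ {V₁ V₂ : S.Opens} {O₁ O₂ : S'.Opens} (x : S'), x ∈ O₁ → x ∈ O₂ →
      O₁ ≤ g ⁻¹ᵁ V₁ → O₂ ≤ g ⁻¹ᵁ V₂ →
      ∃ (V : S.Opens) (V' : S'.Opens), IsAffineOpen V ∧ IsAffineOpen V' ∧ V' ≤ g ⁻¹ᵁ V ∧
        V ≤ V₁ ∧ V ≤ V₂ ∧ V' ≤ O₁ ∧ V' ≤ O₂ ∧ x ∈ V' := by
    intro V₁ V₂ O₁ O₂ x h₁ h₂ i₁ i₂
    obtain ⟨V, hV, hxV, hVle⟩ := exists_isAffineOpen_mem_and_subset (X := S) (x := g x)
      (U := V₁ ⊓ V₂) ⟨i₁ h₁, i₂ h₂⟩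
    obtain ⟨V', hV', hxV', hle⟩ := exists_isAffineOpen_mem_and_subset (X := S') (x := x)
      (U := O₁ ⊓ O₂ ⊓ g ⁻¹ᵁ V) ⟨⟨h₁, h₂⟩, hxV⟩
    exact ⟨V, V', hV, hV', fun z hz => (hle hz).2, fun z hz => (hVle hz).1,
      fun z hz => (hVle hz).2, fun z hz => (hle hz).1.1, fun z hz => (hle hz).1.2, hxV'⟩
  refine (CohTwo.exists_hom_of_local (T := T) (F := H)
    (fun W s t => ∀ x ∈ W, Wit W s t x) ?_ ?_ ?_ ?_ ?_ ?_).elim fun γ hγ => ?_
  · -- restriction
    intro W' W h s t hst x hx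
    obtain ⟨V, V', hV, hV', e, hle, y, hxV', hs, ht⟩ := hst x (h hx)
    obtain ⟨V₂, V'₂, hV₂, hV'₂, e₂, a, -, b, c, hx₂⟩ := common x hxV' (show x ∈ W' ⊓ V' from ⟨hx, hxV'⟩)
      e (inf_le_right.trans e)
    refine ⟨V₂, V'₂, hV₂, hV'₂, e₂, c.trans inf_le_left, cycTenRes G I p e e₂ a b y, hx₂, ?_, ?_⟩
    · rw [← σ_res, hs]
      exact (QCohMod.res_res T _ _ _).trans (QCohMod.res_res T h (c.trans inf_le_left) s).symm
    · rw [← ν_res, ht]
      exact (QCohMod.res_res H _ _ _).trans (QCohMod.res_res H h (c.trans inf_le_left) t).symm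
  · -- uniqueness
    intro W s t t' hst hst'
    refine CohTwo.eq_of_local H _ _ fun x hx => ?_
    obtain ⟨V₁, W₁, hV₁, hW₁, e₁, l₁, y₁, hx₁, hs₁, ht₁⟩ := hst x hx
    obtain ⟨V₂, W₂, hV₂, hW₂, e₂, l₂, y₂, hx₂, hs₂, ht₂⟩ := hst' x hx
    obtain ⟨V, V', hV, hV', e, a₁, a₂, b₁, b₂, hxV'⟩ := common x hx₁ hx₂ e₁ e₂
    refine ⟨V', b₁.trans l₁, hxV', ?_⟩
    have hz := ν_eq_zero sq G I J φ p e hV hV'
      (cycTenRes G I p e₁ e a₁ b₁ y₁ - cycTenRes G I p e₂ e a₂ b₂ y₂) (by
        rw [map_sub, ← σ_res, ← σ_res, hs₁, hs₂, sub_eq_zero]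
        exact (QCohMod.res_res T l₁ b₁ s).trans (QCohMod.res_res T l₂ b₂ s).symm)
    rw [map_sub, ← ν_res, ← ν_res, ht₁, ht₂, sub_eq_zero] at hz
    exact ((QCohMod.res_res H l₁ b₁ t).symm.trans hz).trans (QCohMod.res_res H l₂ b₂ t')
  · -- locality
    intro W s t hloc x hx
    obtain ⟨W', h, hxW', hW'⟩ := hloc x hx
    obtain ⟨V, V', hV, hV', e, hle, y, hxV', hs, ht⟩ := hW' x hxW'
    exact ⟨V, V', hV, hV', e, hle.trans h, y, hxV', hs.trans (QCohMod.res_res _ _ _ _),
      ht.trans (QCohMod.res_res _ _ _ _)⟩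
  · -- existence
    intro W s x hx
    obtain ⟨V, hV, hxV, -⟩ := exists_isAffineOpen_mem_and_subset (X := S) (x := g x) (U := ⊤) trivial
    obtain ⟨V', hV', hxV', hle⟩ := exists_isAffineOpen_mem_and_subset (X := S') (x := x)
      (U := W ⊓ g ⁻¹ᵁ V) ⟨hx, hxV⟩
    have e : V' ≤ g ⁻¹ᵁ V := fun z hz => (hle hz).2
    have := hflat e hV hV'
    obtain ⟨y, hy⟩ := (σ_ν_affine sq G I J φ p e hφ hV hV').1
      (QCohMod.res T (fun z hz => (hle hz).1) s)
    exact ⟨V', fun z hz => (hle hz).1, ν sq G I J φ p e y, hxV',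
      fun z hz => ⟨V, V', hV, hV', e, le_rfl, y, hz, hy.trans (QCohMod.res_self _ _).symm,
        (QCohMod.res_self _ _).symm⟩⟩
  · -- additivity
    intro W s s' t t' hst hst' x hx
    obtain ⟨V₁, W₁, hV₁, hW₁, e₁, l₁, y₁, hx₁, hs₁, ht₁⟩ := hst x hx
    obtain ⟨V₂, W₂, hV₂, hW₂, e₂, l₂, y₂, hx₂, hs₂, ht₂⟩ := hst' x hx
    obtain ⟨V, V', hV, hV', e, a₁, a₂, b₁, b₂, hxV'⟩ := common x hx₁ hx₂ e₁ e₂
    refine ⟨V, V', hV, hV', e, b₁.trans l₁,
      cycTenRes G I p e₁ e a₁ b₁ y₁ + cycTenRes G I p e₂ e a₂ b₂ y₂, hxV', ?_, ?_⟩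
    · rw [map_add, ← σ_res, ← σ_res, hs₁, hs₂]
      exact (congrArg₂ (· + ·) (QCohMod.res_res T l₁ b₁ s) (QCohMod.res_res T l₂ b₂ s')).trans
        (map_add (QCohMod.res T (b₁.trans l₁)) s s').symm
    · rw [map_add, ← ν_res, ← ν_res, ht₁, ht₂]
      exact (congrArg₂ (· + ·) (QCohMod.res_res H l₁ b₁ t) (QCohMod.res_res H l₂ b₂ t')).trans
        (map_add (QCohMod.res H (b₁.trans l₁)) t t').symm
  · -- multiplication
    intro W r s t hst x hx
    obtain ⟨V, V', hV, hV', e, hle, y, hxV', hs, ht⟩ := hst x hx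
    refine ⟨V, V', hV, hV', e, hle, (smulG G e (QCohMod.resFun S' hle r)).rTensor _ y, hxV', ?_, ?_⟩
    · rw [σ_smul, hs]
      exact (QCohMod.res_smul T hle r s).symm
    · rw [ν_smul, ht]
      exact (QCohMod.res_smul H hle r t).symm
  have key : ∀ {V : S.Opens} {V' : S'.Opens} (e : V' ≤ g ⁻¹ᵁ V), IsAffineOpen V →
      IsAffineOpen V' → ∀ y, γ.app V' (σ G I p e y) = ν sq G I J φ p e y := by
    intro V V' e hV hV' y
    refine CohTwo.eq_of_local H _ _ fun x hx => ?_
    obtain ⟨V₁, W₁, hV₁, hW₁, e₁, l₁, y₁, hx₁, hs₁, ht₁⟩ := hγ V' (σ G I p e y) x hx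
    obtain ⟨V₀, V'₀, hV₀, hV'₀, e₀, a, a₁, b, b₁, hx₀⟩ := common x hx hx₁ e e₁
    refine ⟨V'₀, b, hx₀, ?_⟩
    have hz := ν_eq_zero sq G I J φ p e₀ hV₀ hV'₀
      (cycTenRes G I p e₁ e₀ a₁ b₁ y₁ - cycTenRes G I p e e₀ a b y) (by
        rw [map_sub, ← σ_res, ← σ_res, hs₁, QCohMod.res_res, sub_self])
    rw [map_sub, ← ν_res, ← ν_res, ht₁, QCohMod.res_res, sub_eq_zero] at hz
    exact hz
  have : IsIso γ := isIso_of_local_bijective γ fun x W hxW => by
    obtain ⟨V, hV, hxV, -⟩ := exists_isAffineOpen_mem_and_subset (X := S) (x := g x) (U := ⊤) trivial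
    obtain ⟨V', hV', hxV', hle⟩ := exists_isAffineOpen_mem_and_subset (X := S') (x := x)
      (U := W ⊓ g ⁻¹ᵁ V) ⟨hxW, hxV⟩
    have e : V' ≤ g ⁻¹ᵁ V := fun z hz => (hle hz).2
    have := hflat e hV hV'
    obtain ⟨hσ, hν, hker⟩ := σ_ν_affine sq G I J φ p e hφ hV hV'
    refine ⟨V', fun z hz => (hle hz).1, hxV', (injective_iff_map_eq_zero _).2 fun s hs => ?_,
      fun t => ?_⟩
    · obtain ⟨y, rfl⟩ := hσ s
      exact hker y ((key e hV hV' y).symm.trans hs)
    · obtain ⟨y, rfl⟩ := hν t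
      exact ⟨_, key e hV hV' y⟩
  exact ⟨asIso γ⟩

end Main

end Groth.CohBase.FlatBC
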