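import Groth.Agent.CohBase.FlatBC.Iso
import Groth.Agent.CohBase.RpushAffineLin

/-!
# Flat base change over an affine base
-/

universe u

open CategoryTheory Limits AlgebraicGeometry TopologicalSpace Opposite
open scoped TensorProduct

namespace Groth.CohBase.FlatBC

/-- Global sections of higher direct images to an affine scheme. -/
theorem exists_Rpush_top_equiv (A : Type u) [CommRing A] (X : Scheme.{u})
    [X.Over (Spec (CommRingCat.of A))] [QuasiCompact (X ↘ Spec (CommRingCat.of A))]
    [QuasiSeparated (X ↘ Spec (CommRingCat.of A))] [HasInjectiveResolutions X.Modules]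
    (M : X.Modules) [M.IsQuasicoherent] (p : ℕ) :
    ∃ e : Γ((Coh.Rpush (X ↘ Spec (CommRingCat.of A)) p).obj M, ⊤) ≃+ Coh.HH X M p,
      ∀ (a : A) s, e ((Scheme.ΓSpecIso (CommRingCat.of A)).inv a • s) = a • e s := by
  let f := X ↘ Spec (CommRingCat.of A)
  let I := injectiveResolution M
  let R := Res.ofInjective I
  let β₀ : R.Cyc ⊤ p →+ R.HC ⊤ p :=
    (Submodule.mkQ ((R.Bd ⊤ p).comap (R.Cyc ⊤ p).subtype)).toAddMonoidHom
  let β : R.Cyc (f ⁻¹ᵁ ⊤) p →+ R.HC ⊤ p := β₀
  have hker : (θH f I p ⊤).ker = β.ker := by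
    ext z
    change θH f I p ⊤ z = 0 ↔ Submodule.Quotient.mk (show R.Cyc ⊤ p from z) = 0
    rw [Submodule.Quotient.mk_eq_zero]
    exact ⟨fun h => θH_ker f I p (isAffineOpen_top _) z h, fun h => θH_eq_zero_of_bd f I p z h⟩
  have hβ : Function.Surjective β := fun y => by
    obtain ⟨w, hw⟩ := Submodule.Quotient.mk_surjective _ y
    exact ⟨w, hw⟩
  let e₀ := addEquivOfSameKer (θH f I p ⊤) β (θH_surjective f I p (isAffineOpen_top _)) hβ hker
  let i := isoSecEquiv (I.isoRightDerivedObj (Coh.push f) p) ⊤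
  refine ⟨i.toAddEquiv.trans (e₀.trans (Res.hcEquivHH (flasque_ofInjective I) p).toAddEquiv),
    fun a s => ?_⟩
  change Res.hcEquivHH _ p (e₀ (i ((Scheme.ΓSpecIso (CommRingCat.of A)).inv a • s))) =
    Coh.toGlobal f a • Res.hcEquivHH (flasque_ofInjective I) p (e₀ (i s))
  have key : ∀ t, e₀ ((Scheme.ΓSpecIso (CommRingCat.of A)).inv a • t) =
      (show Γ(X, ⊤) from Coh.toGlobal f a) • e₀ t := by
    intro t
    obtain ⟨z, rfl⟩ := θH_surjective f I p (isAffineOpen_top _) t
    refine (congrArg e₀ (θH_smul f I p ⊤ _ z).symm).trans ?_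
    refine (addEquivOfSameKer_apply _ _ _ _ hker _).trans ?_
    refine Eq.trans ?_ (congrArg ((show Γ(X, ⊤) from Coh.toGlobal f a) • ·)
      (addEquivOfSameKer_apply _ _ _ _ hker z)).symm
    exact map_smul (Submodule.mkQ ((R.Bd ⊤ p).comap (R.Cyc ⊤ p).subtype)) _ _
  exact ((congrArg (fun t => Res.hcEquivHH (flasque_ofInjective I) p (e₀ t)) (i.map_smul _ s)).trans
    (congrArg _ (key (i s)))).trans ((Res.hcEquivHH (flasque_ofInjective I) p).map_smul _ _)

variable (A B : Type u) [CommRing A] [CommRing B] [Algebra A B]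

lemma specMap_appLE_inv (a : A) :
    (Spec.map (CommRingCat.ofHom (algebraMap A B))).appLE ⊤ ⊤ le_top
        ((Scheme.ΓSpecIso (CommRingCat.of A)).inv a) =
      (Scheme.ΓSpecIso (CommRingCat.of B)).inv (algebraMap A B a) := by
  change (Spec.map (CommRingCat.ofHom (algebraMap A B))).appLE ⊤
    ((Spec.map (CommRingCat.ofHom (algebraMap A B))) ⁻¹ᵁ ⊤) le_rfl _ = _
  rw [← Scheme.Hom.app_eq_appLE]
  exact (congr($(Scheme.ΓSpecIso_inv_naturality (CommRingCat.ofHom (algebraMap A B))) a)).symm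

/-- Tensor products along isomorphic rings. -/
theorem exists_tensor_congr {A B A' B' H N : Type u} [CommRing A] [CommRing B] [Algebra A B]
    [CommRing A'] [CommRing B'] [Algebra A' B'] [AddCommGroup H] [Module A H] [AddCommGroup N]
    [Module A' N] (ιA : A ≃+* A') (ιB : B ≃+* B')
    (halg : ∀ a, algebraMap A' B' (ιA a) = ιB (algebraMap A B a)) (e : H ≃+ N)
    (he : ∀ a x, e (a • x) = ιA a • e x) :
    ∃ φ : B ⊗[A] H ≃+ B' ⊗[A'] N, ∀ b x, φ (b ⊗ₜ x) = ιB b ⊗ₜ e x := by
  let φ : B ⊗[A] H →+ B' ⊗[A'] N :=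
    TensorProduct.liftAddHom
      (AddMonoidHom.mk' (fun b => AddMonoidHom.mk' (fun x => ιB b ⊗ₜ e x)
          fun x y => by rw [map_add, TensorProduct.tmul_add])
        fun b c => AddMonoidHom.ext fun x => by simp [map_add, TensorProduct.add_tmul])
      fun a b x => by
        change ιB (a • b) ⊗ₜ e x = ιB b ⊗ₜ e (a • x)
        rw [he, ← TensorProduct.smul_tmul, Algebra.smul_def, Algebra.smul_def, halg, map_mul]
  let ψ : B' ⊗[A'] N →+ B ⊗[A] H :=
    TensorProduct.liftAddHom
      (AddMonoidHom.mk' (fun b => AddMonoidHom.mk' (fun x => ιB.symm b ⊗ₜ e.symm x)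
          fun x y => by rw [map_add, TensorProduct.tmul_add])
        fun b c => AddMonoidHom.ext fun x => by simp [map_add, TensorProduct.add_tmul])
      fun r b x => by
        obtain ⟨a, rfl⟩ := ιA.surjective r
        obtain ⟨y, rfl⟩ := e.surjective x
        change ιB.symm (ιA a • b) ⊗ₜ e.symm (e y) = ιB.symm b ⊗ₜ e.symm (ιA a • e y)
        rw [← he, AddEquiv.symm_apply_apply, AddEquiv.symm_apply_apply, ← TensorProduct.smul_tmul,
          Algebra.smul_def, Algebra.smul_def, halg, map_mul, RingEquiv.symm_apply_apply]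
  refine ⟨{ φ with
    invFun := ψ
    left_inv := fun z => ?_
    right_inv := fun z => ?_ }, fun b x => rfl⟩
  · change ψ (φ z) = z
    induction z using TensorProduct.induction_on with
    | zero => simp
    | tmul b x =>
      change ιB.symm (ιB b) ⊗ₜ e.symm (e x) = _
      rw [RingEquiv.symm_apply_apply, AddEquiv.symm_apply_apply]
    | add p q hp hq => rw [map_add, map_add, hp, hq]
  · change φ (ψ z) = z
    induction z using TensorProduct.induction_on with
    | zero => simp
    | tmul b x =>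
      change ιB (ιB.symm b) ⊗ₜ e (e.symm x) = _
      rw [RingEquiv.apply_symm_apply, AddEquiv.apply_symm_apply]
    | add p q hp hq => rw [map_add, map_add, hp, hq]

/-- Base change along the rings of global functions of affine schemes. -/
theorem exists_tensor_top_equiv {H : Type u} [AddCommGroup H] [Module A H]
    (N : (Spec (CommRingCat.of A)).Modules) (e : Γ(N, ⊤) ≃+ H)
    (he : ∀ (a : A) s, e ((Scheme.ΓSpecIso (CommRingCat.of A)).inv a • s) = a • e s) :
    letI := QCohMod.sectionsAlg (Spec.map (CommRingCat.ofHom (algebraMap A B)))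
      (U := ⊤) (V := ⊤) le_top
    ∃ φ : B ⊗[A] H ≃+ Γ(Spec (CommRingCat.of B), ⊤) ⊗[Γ(Spec (CommRingCat.of A), ⊤)] Γ(N, ⊤),
      ∀ b x, φ (b ⊗ₜ x) = (Scheme.ΓSpecIso (CommRingCat.of B)).inv b ⊗ₜ e.symm x := by
  let := QCohMod.sectionsAlg (Spec.map (CommRingCat.ofHom (algebraMap A B)))
    (U := ⊤) (V := ⊤) le_top
  have hsymm : ∀ (a : A) x, e.symm (a • x) =
      (Scheme.ΓSpecIso (CommRingCat.of A)).inv a • e.symm x := fun a x => by
    apply e.injective
    rw [AddEquiv.apply_symm_apply]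
    exact ((he a (e.symm x)).trans (congrArg (a • ·) (e.apply_symm_apply x))).symm
  exact exists_tensor_congr
    (Scheme.ΓSpecIso (CommRingCat.of A)).symm.commRingCatIsoToRingEquiv
    (Scheme.ΓSpecIso (CommRingCat.of B)).symm.commRingCatIsoToRingEquiv
    (specMap_appLE_inv A B) e.symm hsymm

variable [Module.Flat A B] {X X' : Scheme.{u}} [X.Over (Spec (CommRingCat.of A))]
  [X'.Over (Spec (CommRingCat.of B))] [CompactSpace X] [QuasiSeparatedSpace X]

/-- Flat base change over an affine base, linearly. -/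
theorem exists_affine_base_linEquiv (g' : X' ⟶ X)
    (h : IsPullback g' (X' ↘ Spec (CommRingCat.of B)) (X ↘ Spec (CommRingCat.of A))
      (Spec.map (CommRingCat.ofHom (algebraMap A B))))
    (M : X.Modules) [M.IsQuasicoherent] (i : ℕ) :
    Nonempty (TensorProduct A B (Coh.HH X M i) ≃ₗ[B]
      Coh.HH X' ((Scheme.Modules.pullback g').obj M) i) := by
  let f := X ↘ Spec (CommRingCat.of A)
  let f' := X' ↘ Spec (CommRingCat.of B)
  let g := Spec.map (CommRingCat.ofHom (algebraMap A B))
  have : Flat g := (HasRingHomProperty.Spec_iff (P := @Flat)).2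
    (RingHom.flat_algebraMap_iff.2 ‹_›)
  have : QuasiCompact f := inferInstance
  have : QuasiSeparated f := inferInstance
  have : QuasiCompact f' := MorphismProperty.of_isPullback h ‹QuasiCompact f›
  have : QuasiSeparated f' := MorphismProperty.of_isPullback h ‹QuasiSeparated f›
  have := QCohMod.isQCoh_pullback_obj g' M
  let N := (Coh.Rpush f i).obj M
  have : N.IsQuasicoherent := isQCoh_Rpush f i
  obtain ⟨e₁, he₁⟩ := exists_Rpush_top_equiv A X M i
  obtain ⟨e₂, he₂⟩ := exists_Rpush_top_equiv B X' ((Scheme.Modules.pullback g').obj M) i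
  obtain ⟨b⟩ := exists_flat_base_change_iso h M i
  obtain ⟨φ, hφ⟩ := exists_tensor_top_equiv A B N e₁ he₁
  let := QCohMod.sectionsAlg g (U := ⊤) (V := ⊤) le_top
  let P := LinearEquiv.ofBijective (QCohMod.pullSecTensor g N (U := ⊤) (V := ⊤) le_top)
    (QCohMod.pullSecTensor_bijective g N le_top (isAffineOpen_top _) (isAffineOpen_top _))
  let L : TensorProduct A B (Coh.HH X M i) ≃+ Coh.HH X' ((Scheme.Modules.pullback g').obj M) i :=
    (φ.trans (P.toAddEquiv.trans (isoSecEquiv b ⊤).toAddEquiv)).trans e₂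
  refine ⟨AddEquiv.toLinearEquiv L fun c z => ?_⟩
  have key : ∀ (c' : B) w, φ (c' • w) = (Scheme.ΓSpecIso (CommRingCat.of B)).inv c' • φ w := by
    intro c' w
    induction w using TensorProduct.induction_on with
    | zero => simp
    | tmul b x =>
      rw [TensorProduct.smul_tmul', hφ, hφ, smul_eq_mul, map_mul]
      rfl
    | add p q hp hq => rw [smul_add, map_add, map_add, hp, hq, smul_add]
  change e₂ (isoSecEquiv b ⊤ (P (φ (c • z)))) = c • e₂ (isoSecEquiv b ⊤ (P (φ z)))
  rw [key, P.map_smul, (isoSecEquiv b ⊤).map_smul, he₂]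

end Groth.CohBase.FlatBC
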