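import Mathlib.Algebra.Homology.HomologicalComplex
import Mathlib.Algebra.Category.Grp.Preadditive
import Mathlib.Algebra.Group.Subgroup.Ker
import Mathlib.Tactic.Abel

/-!
# Element form of quasi-isomorphisms of complexes of abelian groups
-/

universe u

open CategoryTheory

namespace Groth.CohBase.FlatBC

variable {K L : CochainComplex AddCommGrpCat.{u} ℕ}

/-- Coboundaries. -/
def bd (K : CochainComplex AddCommGrpCat.{u} ℕ) : ∀ n, AddSubgroup (K.X n)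
  | 0 => ⊥
  | n + 1 => (K.d n (n + 1)).hom.range

lemma mem_bd_zero {x : K.X 0} : x ∈ bd K 0 ↔ x = 0 := AddSubgroup.mem_bot

lemma mem_bd_succ {n : ℕ} {x : K.X (n + 1)} :
    x ∈ bd K (n + 1) ↔ ∃ w, K.d n (n + 1) w = x := Iff.rfl

lemma d_d_apply (n : ℕ) (x : K.X n) : K.d (n + 1) (n + 1 + 1) (K.d n (n + 1) x) = 0 := by
  rw [← ConcreteCategory.comp_apply, K.d_comp_d]
  rfl

lemma hom_d_apply (φ : K ⟶ L) (n : ℕ) (x : K.X n) :
    φ.f (n + 1) (K.d n (n + 1) x) = L.d n (n + 1) (φ.f n x) := by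
  rw [← ConcreteCategory.comp_apply, ← φ.comm n (n + 1)]
  rfl

lemma d_bd : ∀ {n : ℕ} {x : K.X n}, x ∈ bd K n → K.d n (n + 1) x = 0
  | 0, x, h => by rw [mem_bd_zero.1 h, map_zero]
  | n + 1, _, ⟨w, rfl⟩ => d_d_apply n w

lemma bd_map (φ : K ⟶ L) : ∀ {n : ℕ} {x : K.X n}, x ∈ bd K n → φ.f n x ∈ bd L n
  | 0, x, h => by rw [mem_bd_zero.1 h, map_zero]; exact zero_mem _
  | n + 1, _, ⟨w, rfl⟩ => ⟨φ.f n w, (hom_d_apply φ n w).symm⟩

lemma bd_lift (φ : K ⟶ L) (h : ∀ n, Function.Surjective (φ.f n)) :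
    ∀ {n : ℕ} {y : L.X n}, y ∈ bd L n → ∃ x ∈ bd K n, φ.f n x = y
  | 0, y, hy => ⟨0, zero_mem _, by rw [map_zero, mem_bd_zero.1 hy]⟩
  | n + 1, _, ⟨w, rfl⟩ => by
    obtain ⟨v, rfl⟩ := h n w
    exact ⟨_, ⟨v, rfl⟩, hom_d_apply φ n v⟩

/-- A map of complexes which is bijective on cohomology. -/
structure QI (φ : K ⟶ L) : Prop where
  inj : ∀ (n : ℕ) (z : K.X n), K.d n (n + 1) z = 0 → φ.f n z ∈ bd L n → z ∈ bd K n
  surj : ∀ (n : ℕ) (t : L.X n), L.d n (n + 1) t = 0 →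
    ∃ z, K.d n (n + 1) z = 0 ∧ φ.f n z - t ∈ bd L n

section Five

variable {A B C A' B' C' : CochainComplex AddCommGrpCat.{u} ℕ}
  (i : A ⟶ B) (q : B ⟶ C) (i' : A' ⟶ B') (q' : B' ⟶ C')
  (a : A ⟶ A') (b : B ⟶ B') (c : C ⟶ C')

/-- The five lemma for a map of short exact sequences of complexes. -/
theorem QI.five
    (hi : ∀ n, Function.Injective (i.f n)) (hi' : ∀ n, Function.Injective (i'.f n))
    (hq : ∀ n, Function.Surjective (q.f n)) (hq' : ∀ n, Function.Surjective (q'.f n))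
    (hex : ∀ n x, q.f n x = 0 ↔ ∃ y, i.f n y = x)
    (hex' : ∀ n x, q'.f n x = 0 ↔ ∃ y, i'.f n y = x)
    (hib : ∀ n x, b.f n (i.f n x) = i'.f n (a.f n x))
    (hqb : ∀ n x, c.f n (q.f n x) = q'.f n (b.f n x))
    (hb : QI b) (hc : QI c) : QI a := by
  constructor
  · intro n z hz haz
    cases n with
    | zero =>
      rw [mem_bd_zero] at haz ⊢
      have h1 : i.f 0 z ∈ bd B 0 := hb.inj 0 _ (by rw [← hom_d_apply, hz, map_zero])
        (by rw [hib, haz, map_zero]; exact zero_mem _)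
      exact hi 0 ((mem_bd_zero.1 h1).trans (map_zero _).symm)
    | succ n =>
      obtain ⟨t, ht⟩ := haz
      obtain ⟨β₀, hβ₀⟩ := hb.inj (n + 1) (i.f (n + 1) z)
        (by rw [← hom_d_apply, hz, map_zero])
        ⟨i'.f n t, by rw [hib, ← ht]; exact (hom_d_apply i' n t).symm⟩
      obtain ⟨b', hb', hb''⟩ := hb.surj n (b.f n β₀ - i'.f n t)
        (by rw [map_sub, ← hom_d_apply, ← hom_d_apply, hβ₀, hib, ← ht]; exact sub_self _)
      have hd : B.d n (n + 1) (β₀ - b') = i.f (n + 1) z := by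
        rw [map_sub, hb', hβ₀, sub_zero]
      have h0 : q'.f n (i'.f n t) = 0 := (hex' n _).2 ⟨t, rfl⟩
      obtain ⟨β, hβ, hqβ⟩ := bd_lift q hq (hc.inj n (q.f n (β₀ - b'))
        (by rw [← hom_d_apply, hd]; exact (hex _ _).2 ⟨z, rfl⟩)
        (by
          have h2 := neg_mem (bd_map q' hb'')
          rw [map_sub, map_sub, h0, sub_zero, neg_sub] at h2
          rw [hqb, map_sub, map_sub]
          exact h2))
      obtain ⟨y, hy⟩ := (hex n (β₀ - b' - β)).1 (by rw [map_sub, hqβ, sub_self])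
      refine ⟨y, hi (n + 1) ?_⟩
      rw [hom_d_apply, hy, map_sub, hd, d_bd hβ, sub_zero]
  · intro n t ht
    obtain ⟨b₀, hb₀, hb₀'⟩ := hb.surj n (i'.f n t) (by rw [← hom_d_apply, ht, map_zero])
    obtain ⟨β, hβ, hqβ⟩ := bd_lift q hq (hc.inj n (q.f n b₀) (by rw [← hom_d_apply, hb₀, map_zero])
      (by
        have h2 := bd_map q' hb₀'
        rw [map_sub, (hex' n _).2 ⟨t, rfl⟩, sub_zero] at h2
        rw [hqb]
        exact h2))
    obtain ⟨x, hx⟩ := (hex n (b₀ - β)).1 (by rw [map_sub, hqβ, sub_self])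
    have hxc : A.d n (n + 1) x = 0 := hi (n + 1) <| by
      rw [hom_d_apply, hx, map_sub, hb₀, d_bd hβ, sub_zero, map_zero]
    have hr : i'.f n (a.f n x - t) ∈ bd B' n := by
      rw [map_sub, ← hib, hx, map_sub, sub_right_comm]
      exact sub_mem hb₀' (bd_map b hβ)
    cases n with
    | zero =>
      refine ⟨x, hxc, mem_bd_zero.2 (hi' 0 ?_)⟩
      rw [mem_bd_zero.1 hr, map_zero]
    | succ n =>
      obtain ⟨s, hs⟩ := hr
      obtain ⟨γ, hγ, hγ'⟩ := hc.surj n (q'.f n s) (by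
        rw [← hom_d_apply]
        exact (hex' _ _).2 ⟨_, hs.symm⟩)
      obtain ⟨b₁, rfl⟩ := hq n γ
      obtain ⟨β', hβ', hqβ'⟩ := bd_lift q' hq' hγ'
      obtain ⟨r, hr⟩ := (hex' n (b.f n b₁ - s - β')).1
        (by rw [map_sub, hqβ', map_sub, ← hqb]; exact sub_self _)
      obtain ⟨a₁, ha₁⟩ := (hex (n + 1) (B.d n (n + 1) b₁)).1 (by rw [hom_d_apply]; exact hγ)
      refine ⟨x - a₁, ?_, ⟨-r, hi' (n + 1) ?_⟩⟩
      · rw [map_sub, hxc, zero_sub, neg_eq_zero]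
        apply hi (n + 1 + 1)
        rw [hom_d_apply, ha₁, d_d_apply, map_zero]
      · rw [map_neg, map_neg, hom_d_apply, hr, map_sub, map_sub, d_bd hβ', sub_zero, ← hom_d_apply,
          ← ha₁, hib, hs]
        simp only [map_sub]
        abel

end Five

end Groth.CohBase.FlatBC
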