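import Groth.Agent.CohBase.FlatBC.Glue
import Groth.Agent.Misc13.FlatBC
import Groth.Agent.PicAux.Pullback

/-!
# Flat base change for higher direct images
-/

universe u

open CategoryTheory Limits AlgebraicGeometry

namespace Groth.CohBase.FlatBC

variable {X S X' S' : Scheme.{u}} {f : X ⟶ S} {g : S' ⟶ S} {g' : X' ⟶ X} {f' : X' ⟶ S'}

/-- Flat base change with a flat coefficient module. -/
theorem exists_iso_Rpush (sq : IsPullback g' f' f g) [QuasiCompact f] [QuasiSeparated f]
    [HasInjectiveResolutions X.Modules] [HasInjectiveResolutions X'.Modules]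
    (M : X.Modules) [M.IsQuasicoherent] (G : S'.Modules) [G.IsQuasicoherent]
    (hGf : FlatMod.IsFlatOver g G) (i : ℕ) :
    Nonempty ((tPull g G).obj ((Coh.Rpush f i).obj M) ≅
      (Coh.Rpush f' i).obj ((tPull g' ((Scheme.Modules.pullback f').obj G)).obj M)) := by
  have hP : FlatMod.IsFlatOver g' ((Scheme.Modules.pullback f').obj G) := fun x =>
    Groth.Agent.S1391.result g g' f' f sq.flip G ‹_› x (hGf _)
  let I := injectiveResolution M
  let J := injectiveResolution ((tPull g' ((Scheme.Modules.pullback f').obj G)).obj M)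
  obtain ⟨φ, hφ⟩ := exists_tPull_desc g' _ I hP J
  obtain ⟨a⟩ := exists_iso_homology sq G I J φ i hφ hGf
  exact ⟨(tPull g G).mapIso (I.isoRightDerivedObj (Coh.push f) i) ≪≫ a ≪≫
    (J.isoRightDerivedObj (Coh.push f') i).symm⟩

/-- `O ⊗ h^* M ≅ h^* M`. -/
theorem nonempty_tPull_structure_iso (h : X' ⟶ X) (M : X.Modules) :
    Nonempty ((tPull h (Coh.structureModule X')).obj M ≅ (Scheme.Modules.pullback h).obj M) :=
  ⟨(Groth.PicAux.exists_leftUnitor ((Scheme.Modules.pullback h).obj M)).choose⟩

/-- Flat base change for higher direct images. -/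
theorem exists_flat_base_change_iso (sq : IsPullback g' f' f g) [QuasiCompact f] [QuasiSeparated f]
    [Flat g] [HasInjectiveResolutions X.Modules] [HasInjectiveResolutions X'.Modules]
    (M : X.Modules) [M.IsQuasicoherent] (i : ℕ) :
    Nonempty ((Scheme.Modules.pullback g).obj ((Coh.Rpush f i).obj M) ≅
      (Coh.Rpush f' i).obj ((Scheme.Modules.pullback g').obj M)) := by
  obtain ⟨a⟩ := exists_iso_Rpush sq M (Coh.structureModule S')
    (fun x => (Groth.Misc13.FlatBC.flat_stalkMap_iff_structure g x).2 (Flat.stalkMap g x)) i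
  obtain ⟨b⟩ := nonempty_tPull_structure_iso g ((Coh.Rpush f i).obj M)
  obtain ⟨c⟩ := nonempty_tPull_structure_iso g' M
  have := Groth.PicAux.isIso_pullUnit f'
  exact ⟨b.symm ≪≫ a ≪≫ (Coh.Rpush f' i).mapIso
    ((((DCoh.tensorBi (X := X')).mapIso (asIso (Groth.PicAux.pullUnit f'))).app
      ((Scheme.Modules.pullback g').obj M)) ≪≫ c)⟩

end Groth.CohBase.FlatBC
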