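import Groth.Agent.CohBase.FlatBC.TensorSec
import Mathlib.Algebra.Category.Ring.Constructions

/-!
# Sections of `f'^* G ⊗ g'^* M` over products of affine opens
-/

universe u

open CategoryTheory Limits AlgebraicGeometry TopologicalSpace Opposite
open scoped TensorProduct
open Groth.QCohMod (sectionsAlg)

namespace Groth.CohBase.FlatBC

variable {X S X' S' : Scheme.{u}} {f : X ⟶ S} {g : S' ⟶ S} {g' : X' ⟶ X} {f' : X' ⟶ S'}
  (sq : IsPullback g' f' f g) (G : S'.Modules) (M : X.Modules) {V : S.Opens} {V' : S'.Opens}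
  (e : V' ≤ g ⁻¹ᵁ V) {U : X.Opens} (eU : U ≤ f ⁻¹ᵁ V) {U' : X'.Opens} (e₁ : U' ≤ g' ⁻¹ᵁ U)
  (e₂ : U' ≤ f' ⁻¹ᵁ V') (hU' : U' = g' ⁻¹ᵁ U ⊓ f' ⁻¹ᵁ V')

include sq hU' in
lemma isAffineOpen_prod (hV : IsAffineOpen V) (hV' : IsAffineOpen V') (hU : IsAffineOpen U)
    (e : V' ≤ g ⁻¹ᵁ V) (eU : U ≤ f ⁻¹ᵁ V) : IsAffineOpen U' := by
  have : IsAffine _ := hV
  have : IsAffine _ := hV'
  have : IsAffine _ := hU
  exact .of_isIso (Scheme.Hom.isPullback_resLE sq e eU hU').isoPullback.hom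

include hU' in
/-- Over affine opens `τ` is bijective. -/
theorem τ_bijective [G.IsQuasicoherent] [M.IsQuasicoherent] (hV : IsAffineOpen V)
    (hV' : IsAffineOpen V') (hU : IsAffineOpen U) :
    Function.Bijective (τ sq.w G M e eU e₁ e₂) := by
  have hU'a : IsAffineOpen U' := isAffineOpen_prod sq hU' hV hV' hU e eU
  let P := (Scheme.Modules.pullback f').obj G
  have := QCohMod.isQCoh_pullback_obj f' G
  have hp := (isIso_pushoutSection_iff sq e eU hU').1
    (isIso_pushoutSection_of_isAffineOpen sq e eU hU' hV hV' hU)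
  let := sectionsAlg f eU
  let := sectionsAlg g e
  let := sectionsAlg g' e₁
  let := sectionsAlg f' e₂
  let : Algebra Γ(S, V) Γ(X', U') :=
    ((g'.appLE U U' e₁).hom.comp (f.appLE V U eU).hom).toAlgebra
  have : IsScalarTower Γ(S, V) Γ(X, U) Γ(X', U') := .of_algebraMap_eq fun _ => rfl
  have : IsScalarTower Γ(S, V) Γ(S', V') Γ(X', U') :=
    .of_algebraMap_eq fun r => (appLE_sq sq.w e eU e₁ e₂ r).symm
  have : Algebra.IsPushout Γ(S, V) Γ(X, U) Γ(S', V') Γ(X', U') :=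
    CommRingCat.isPushout_iff_isPushout.1 hp
  let : Module Γ(S', V') (secMod g G e) := inferInstanceAs (Module Γ(S', V') Γ(G, V'))
  have : IsScalarTower Γ(S, V) Γ(S', V') (secMod g G e) := .of_algebraMap_smul fun _ _ => rfl
  let : Module Γ(X, U) (secMod f M eU) := inferInstanceAs (Module Γ(X, U) Γ(M, U))
  have : IsScalarTower Γ(S, V) Γ(X, U) (secMod f M eU) := .of_algebraMap_smul fun _ _ => rfl
  let : Module Γ(X, U) Γ(P, U') := Module.compHom _ (g'.appLE U U' e₁).hom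
  let b : Γ(X', U') ⊗[Γ(S', V')] secMod g G e ≃ₗ[Γ(X', U')] Γ(P, U') :=
    LinearEquiv.ofBijective (QCohMod.pullSecTensor f' G e₂)
      (QCohMod.pullSecTensor_bijective f' G e₂ hV' hU'a)
  have : IsScalarTower Γ(X, U) Γ(X', U') Γ(P, U') := .of_algebraMap_smul fun _ _ => rfl
  let c : Γ(X, U) ⊗[Γ(S, V)] secMod g G e ≃ₗ[Γ(X, U)] Γ(P, U') :=
    (Algebra.IsPushout.cancelBaseChange Γ(S, V) Γ(X, U) Γ(S', V') Γ(X', U') (secMod g G e)).symm
      ≪≫ₗ b.restrictScalars Γ(X, U)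
  let φ : secMod g G e ⊗[Γ(S, V)] secMod f M eU ≃+ secMod g' P e₁ ⊗[Γ(X, U)] Γ(M, U) :=
    (TensorProduct.comm Γ(S, V) (secMod g G e) (secMod f M eU)).toAddEquiv.trans
      ((TensorProduct.AlgebraTensorModule.cancelBaseChange Γ(S, V) Γ(X, U) Γ(X, U) (secMod f M eU)
          (secMod g G e)).symm.toAddEquiv.trans
        ((LinearEquiv.lTensor (secMod f M eU) c).toAddEquiv.trans
          (TensorProduct.comm Γ(X, U) (secMod f M eU) Γ(P, U')).toAddEquiv))
  have key : ∀ z, τ sq.w G M e eU e₁ e₂ z = tSecLift g' P M e₁ (φ z) := by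
    intro z
    induction z using TensorProduct.induction_on with
    | zero => simp only [map_zero]
    | tmul a m =>
      rw [τ_tmul]
      change _ = tSec g' P M e₁ (show Γ(P, U') from c ((1 : Γ(X, U)) ⊗ₜ a)) (show Γ(M, U) from m)
      congr 2
      change _ = b ((Algebra.IsPushout.cancelBaseChange Γ(S, V) Γ(X, U) Γ(S', V') Γ(X', U')
        (secMod g G e)).symm (1 ⊗ₜ a))
      rw [Algebra.IsPushout.cancelBaseChange_symm_tmul, map_one]
      change _ = QCohMod.pullSecTensor f' G e₂ ((1 : Γ(X', U')) ⊗ₜ (show Γ(G, V') from a))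
      rw [QCohMod.pullSecTensor_tmul, one_smul]
      rfl
    | add p q hp hq => simp only [map_add, hp, hq]
  rw [show (τ sq.w G M e eU e₁ e₂ : _ → _) = tSecLift g' P M e₁ ∘ φ from funext key]
  exact (tSecLift_bijective g' P M e₁ hU hU'a).comp φ.bijective

end Groth.CohBase.FlatBC
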