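import Groth.Agent.CohBase.FlatBC.SecCx
import Groth.Agent.CohBase.FlatBC.TauAffine
import Groth.Agent.CohBase.MayerVietoris
import Groth.Agent.QCohMod.Tensor

/-!
# Base change of the cohomology of sections on quasi-compact opens
-/

universe u

open CategoryTheory Limits AlgebraicGeometry TopologicalSpace Opposite
open scoped TensorProduct
open Groth.QCohMod (res_app)

namespace Groth.CohBase.FlatBC

variable {X S X' S' : Scheme.{u}} {f : X ⟶ S} {g : S' ⟶ S} {g' : X' ⟶ X} {f' : X' ⟶ S'}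
  (sq : IsPullback g' f' f g) (G : S'.Modules) {V : S.Opens} {V' : S'.Opens} (e : V' ≤ g ⁻¹ᵁ V)
  {M : X.Modules} (I : InjectiveResolution M)
  (J : InjectiveResolution ((tPull g' ((Scheme.Modules.pullback f').obj G)).obj M))
  (φ : tCx g' ((Scheme.Modules.pullback f').obj G) I ⟶ J.cocomplex)

lemma lTensor_secModRes {U U₂ : X.Opens} (eU : U ≤ f ⁻¹ᵁ V) (eU₂ : U₂ ≤ f ⁻¹ᵁ V) (h : U₂ ≤ U)
    (N : X.Modules) (z : secMod g G e ⊗[Γ(S, V)] secMod f N eU) :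
    (secModRes f N eU eU₂ h).lTensor (secMod g G e) z =
      tenRes f g G N e e eU eU₂ le_rfl le_rfl h z := by
  induction z using TensorProduct.induction_on with
  | zero => simp
  | tmul a m =>
    rw [tenRes_tmul, LinearMap.lTensor_tmul]
    exact congrArg (· ⊗ₜ[Γ(S, V)] _) (QCohMod.res_self G (show Γ(G, V') from a)).symm
  | add p q hp hq => simp only [map_add, hp, hq]

/-- The comparison on complexes of sections. -/
noncomputable def cmap {U : X.Opens} (eU : U ≤ f ⁻¹ᵁ V) {U' : X'.Opens} (e₁ : U' ≤ g' ⁻¹ᵁ U)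
    (e₂ : U' ≤ f' ⁻¹ᵁ V') : tenCx f g G e I eU ⟶ evCx J U' where
  f n := AddCommGrpCat.ofHom
    (((φ.f n).app U').hom.comp (τ sq.w G (I.cocomplex.X n) e eU e₁ e₂))
  comm' i j _ := by
    ext z
    change (J.cocomplex.d i j).app U' ((φ.f i).app U' (τ sq.w G _ e eU e₁ e₂ z)) =
      (φ.f j).app U' (τ sq.w G _ e eU e₁ e₂
        ((secModMap f (I.cocomplex.d i j) eU).lTensor _ z))
    rw [← τ_map]
    exact congr($(congrArg (fun γ : (tCx g' ((Scheme.Modules.pullback f').obj G) I).X i ⟶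
      J.cocomplex.X j => γ.app U') (φ.comm i j)) (τ sq.w G _ e eU e₁ e₂ z))

lemma cmap_res {U U₂ : X.Opens} (eU : U ≤ f ⁻¹ᵁ V) (eU₂ : U₂ ≤ f ⁻¹ᵁ V) (h : U₂ ≤ U)
    {U' U'₂ : X'.Opens} (a₁ : U' ≤ g' ⁻¹ᵁ U) (a₂ : U' ≤ f' ⁻¹ᵁ V') (b₁ : U'₂ ≤ g' ⁻¹ᵁ U₂)
    (b₂ : U'₂ ≤ f' ⁻¹ᵁ V') (h' : U'₂ ≤ U') (n : ℕ) (z : (tenCx f g G e I eU).X n) :
    (cmap sq G e I J φ eU₂ b₁ b₂).f n ((tenCxRes f g G e I eU eU₂ h).f n z) =
      (evRes J h').f n ((cmap sq G e I J φ eU a₁ a₂).f n z) := by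
  change (φ.f n).app U'₂ (τ sq.w G (I.cocomplex.X n) e eU₂ b₁ b₂
      ((secModRes f (I.cocomplex.X n) eU eU₂ h).lTensor (secMod g G e) z)) =
    QCohMod.res (J.cocomplex.X n) h' ((φ.f n).app U' (τ sq.w G (I.cocomplex.X n) e eU a₁ a₂ z))
  rw [res_app, lTensor_secModRes, ← τ_res sq.w G (I.cocomplex.X n) e e eU eU₂ a₁ a₂ b₁ b₂
    le_rfl le_rfl h h']
  rfl

variable (hφ : (tPull g' ((Scheme.Modules.pullback f').obj G)).map (resι I) ≫ φ.f 0 = resι J)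
  [G.IsQuasicoherent] [M.IsQuasicoherent]

lemma isQCoh_tPull {Z : Scheme.{u}} (h : Z ⟶ X) (P : Z.Modules) [P.IsQuasicoherent] :
    ((tPull h P).obj M).IsQuasicoherent := by
  have := QCohMod.isQCoh_pullback_obj h M
  exact QCohMod.isQCoh_tensorMod (M := P) (N := (Scheme.Modules.pullback h).obj M)

/-- The predicate of the induction. -/
def BCOn (U : X.Opens) : Prop :=
  ∀ (eU : U ≤ f ⁻¹ᵁ V) (U' : X'.Opens) (e₁ : U' ≤ g' ⁻¹ᵁ U) (e₂ : U' ≤ f' ⁻¹ᵁ V'),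
    U' = g' ⁻¹ᵁ U ⊓ f' ⁻¹ᵁ V' → QI (cmap sq G e I J φ eU e₁ e₂)

include hφ in
/-- The comparison on affine opens. -/
theorem bcOn_affine (hV : IsAffineOpen V) (hV' : IsAffineOpen V')
    [Module.Flat Γ(S, V) (secMod g G e)] {U : X.Opens} (hU : IsAffineOpen U) :
    BCOn sq G e I J φ U := by
  intro eU U' e₁ e₂ hU'
  have hU'a : IsAffineOpen U' := isAffineOpen_prod sq hU' hV hV' hU e eU
  have hP := QCohMod.isQCoh_pullback_obj f' G
  have := isQCoh_tPull (M := M) g' ((Scheme.Modules.pullback f').obj G)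
  let ιI := secModMap f (resι I) eU
  let dI (n : ℕ) := secModMap f (I.cocomplex.d n (n + 1)) eU
  have hI₀ : Function.Exact ιI (dI 0) := fun z =>
    ⟨fun hz => (Res.mem_cyc_zero_iff (R := Res.ofInjective I)).1 hz,
      fun ⟨m, hm⟩ => (Res.mem_cyc_zero_iff (R := Res.ofInjective I)).2 ⟨m, hm⟩⟩
  have hI : ∀ n, Function.Exact (dI n) (dI (n + 1)) := fun n z =>
    ⟨fun hz => Res.bd_of_cyc (R := Res.ofInjective I) (flasque_ofInjective I)
        (hVanish_of_isAffineOpen M hU n) hz,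
      fun hz => Res.bd_le_cyc (R := Res.ofInjective I) U (n + 1) hz⟩
  have hcyc₀ : ∀ t, (evCx J U').d 0 1 t = 0 →
      ∃ s : Γ((tPull g' ((Scheme.Modules.pullback f').obj G)).obj M, U'),
        (resι J).app U' s = (show Γ(J.cocomplex.X 0, U') from t) :=
    fun t ht => (Res.mem_cyc_zero_iff (R := Res.ofInjective J)).1 ht
  have hc₀ : ∀ m, (cmap sq G e I J φ eU e₁ e₂).f 0 (ιI.lTensor (secMod g G e) m) =
      (show (evCx J U').X 0 from (resι J).app U' (τ sq.w G M e eU e₁ e₂ m)) := by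
    intro m
    change (φ.f 0).app U' (τ sq.w G _ e eU e₁ e₂ (ιI.lTensor (secMod g G e) m)) = _
    rw [← τ_map]
    exact congr($(congrArg (fun γ : (tPull g' ((Scheme.Modules.pullback f').obj G)).obj M ⟶
      J.cocomplex.X 0 => γ.app U') hφ) (τ sq.w G M e eU e₁ e₂ m))
  constructor
  · intro n z hz hcz
    cases n with
    | zero =>
      obtain ⟨m, rfl⟩ := (Module.Flat.lTensor_exact (secMod g G e) hI₀ z).1 hz
      rw [mem_bd_zero] at hcz ⊢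
      have hm : τ sq.w G M e eU e₁ e₂ m = 0 := by
        refine Res.ι_app_injective (R := Res.ofInjective J) U' ?_
        exact ((hc₀ m).symm.trans hcz).trans (map_zero _).symm
      rw [(τ_bijective sq G M e eU e₁ e₂ hU' hV hV' hU).1 (hm.trans (map_zero _).symm), map_zero]
      rfl
    | succ n =>
      obtain ⟨w, hw⟩ := (Module.Flat.lTensor_exact (secMod g G e) (hI n) z).1 hz
      exact ⟨w, hw⟩
  · intro n t ht
    cases n with
    | zero =>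
      obtain ⟨s, hs⟩ := hcyc₀ t ht
      obtain ⟨m, rfl⟩ := (τ_bijective sq G M e eU e₁ e₂ hU' hV hV' hU).2 s
      refine ⟨ιI.lTensor (secMod g G e) m,
        (Module.Flat.lTensor_exact (secMod g G e) hI₀).apply_apply_eq_zero m, ?_⟩
      rw [mem_bd_zero, sub_eq_zero]
      exact (hc₀ m).trans hs
    | succ n =>
      refine ⟨0, map_zero _, ?_⟩
      rw [map_zero, zero_sub, neg_mem_iff]
      exact (mem_bd_evCx J U' (n + 1) t).2 (Res.bd_of_cyc (R := Res.ofInjective J)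
        (flasque_ofInjective J) (hVanish_of_isAffineOpen
          ((tPull g' ((Scheme.Modules.pullback f').obj G)).obj M) hU'a n) ht)

omit [G.IsQuasicoherent] [M.IsQuasicoherent] in
/-- The Mayer–Vietoris step. -/
theorem bcOn_sup [Module.Flat Γ(S, V) (secMod g G e)] {U W : X.Opens}
    (hU : BCOn sq G e I J φ U) (hW : BCOn sq G e I J φ W) (hUW : BCOn sq G e I J φ (U ⊓ W)) :
    BCOn sq G e I J φ (U ⊔ W) := by
  intro eT T' e₁ e₂ hT'
  have eU : U ≤ f ⁻¹ᵁ V := le_sup_left.trans eT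
  have eW : W ≤ f ⁻¹ᵁ V := le_sup_right.trans eT
  have eO : U ⊓ W ≤ f ⁻¹ᵁ V := inf_le_left.trans eU
  have hT₂ : T' = (g' ⁻¹ᵁ U ⊓ f' ⁻¹ᵁ V') ⊔ (g' ⁻¹ᵁ W ⊓ f' ⁻¹ᵁ V') := by
    rw [hT', Scheme.Hom.preimage_sup, inf_sup_right]
  have hO₂ : g' ⁻¹ᵁ (U ⊓ W) ⊓ f' ⁻¹ᵁ V' =
      (g' ⁻¹ᵁ U ⊓ f' ⁻¹ᵁ V') ⊓ (g' ⁻¹ᵁ W ⊓ f' ⁻¹ᵁ V') := by
    rw [Scheme.Hom.preimage_inf, inf_inf_distrib_right]
  have b₁ : g' ⁻¹ᵁ U ⊓ f' ⁻¹ᵁ V' ≤ T' := le_sup_left.trans hT₂.ge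
  have b₂ : g' ⁻¹ᵁ W ⊓ f' ⁻¹ᵁ V' ≤ T' := le_sup_right.trans hT₂.ge
  have b₃ : g' ⁻¹ᵁ (U ⊓ W) ⊓ f' ⁻¹ᵁ V' ≤ g' ⁻¹ᵁ U ⊓ f' ⁻¹ᵁ V' := hO₂.le.trans inf_le_left
  have b₄ : g' ⁻¹ᵁ (U ⊓ W) ⊓ f' ⁻¹ᵁ V' ≤ g' ⁻¹ᵁ W ⊓ f' ⁻¹ᵁ V' := hO₂.le.trans inf_le_right
  refine QI.mayerVietoris
    (tenCxRes f g G e I eT eU le_sup_left) (tenCxRes f g G e I eT eW le_sup_right)
    (tenCxRes f g G e I eU eO inf_le_left) (tenCxRes f g G e I eW eO inf_le_right)
    (evRes J b₁) (evRes J b₂) (evRes J b₃) (evRes J b₄)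
    (cmap sq G e I J φ eT e₁ e₂) (cmap sq G e I J φ eU inf_le_left inf_le_right)
    (cmap sq G e I J φ eW inf_le_left inf_le_right)
    (cmap sq G e I J φ eO inf_le_left inf_le_right)
    (fun n => ?_) (fun n => ?_) (fun n x => cmap_res sq G e I J φ _ _ _ _ _ _ _ _ n x)
    (fun n x => cmap_res sq G e I J φ _ _ _ _ _ _ _ _ n x)
    (fun n x => cmap_res sq G e I J φ _ _ _ _ _ _ _ _ n x)
    (fun n x => cmap_res sq G e I J φ _ _ _ _ _ _ _ _ n x)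
    (hU eU _ _ _ rfl) (hW eW _ _ _ rfl) (hUW eO _ _ _ rfl)
  · obtain ⟨hi, hs, he⟩ := sec_mv (I.cocomplex.X n) (flasque_ofInjective I n) (T := U ⊔ W)
      (O := U ⊓ W) rfl rfl le_sup_left le_sup_right inf_le_left inf_le_right
    exact lTensor_mv (secModRes f _ eT eU le_sup_left) (secModRes f _ eT eW le_sup_right)
      (secModRes f _ eU eO inf_le_left) (secModRes f _ eW eO inf_le_right) hi hs he
  · exact sec_mv (J.cocomplex.X n) (flasque_ofInjective J n) hT₂ hO₂ b₁ b₂ b₃ b₄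

include hφ in
/-- Base change of cohomology of sections on quasi-compact opens. -/
theorem bcOn_of_isCompact (hV : IsAffineOpen V) (hV' : IsAffineOpen V')
    [Module.Flat Γ(S, V) (secMod g G e)] [QuasiCompact f] [QuasiSeparated f] :
    BCOn sq G e I J φ (f ⁻¹ᵁ V) := by
  have : IsAffine V.toScheme := hV
  have : QuasiSeparatedSpace (f ⁻¹ᵁ V).toScheme := quasiSeparatedSpace_of_quasiSeparated (f ∣_ V)
  have hq : IsQuasiSeparated ((f ⁻¹ᵁ V : X.Opens) : Set X) :=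
    (isQuasiSeparated_iff_quasiSeparatedSpace ((f ⁻¹ᵁ V : X.Opens) : Set X) (f ⁻¹ᵁ V).2).mpr this
  exact qcqs_induction_on (BCOn sq G e I J φ) _ hq
    (fun U hU _ => bcOn_affine sq G e I J φ hφ hV hV' hU)
    (fun U W _ _ _ _ h₁ h₂ h₃ => bcOn_sup sq G e I J φ h₁ h₂ h₃) _
    (QuasiCompact.isCompact_preimage _ V.2 hV.isCompact) le_rfl

end Groth.CohBase.FlatBC
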