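import Groth.Agent.CohBase.FlatBC.Chase
import Groth.Agent.CohBase.FlatBC.Exact
import Groth.Agent.CohBase.SecLocal
import Mathlib.RingTheory.Flat.Basic

/-!
# Complexes of sections, tensored
-/

universe u

open CategoryTheory Limits AlgebraicGeometry TopologicalSpace Opposite
open scoped TensorProduct
open Groth.QCohMod (res_app res_self res_smul)

namespace Groth.CohBase.FlatBC

section Algebra

variable {R : Type u} [CommRing R] {G A B₁ B₂ C : Type u} [AddCommGroup G] [Module R G]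
  [AddCommGroup A] [Module R A] [AddCommGroup B₁] [Module R B₁] [AddCommGroup B₂] [Module R B₂]
  [AddCommGroup C] [Module R C] (r₁ : A →ₗ[R] B₁) (r₂ : A →ₗ[R] B₂) (q₁ : B₁ →ₗ[R] C)
  (q₂ : B₂ →ₗ[R] C)

/-- Tensoring a Mayer–Vietoris sequence with a flat module. -/
theorem lTensor_mv [Module.Flat R G] (hi : Function.Injective fun a => (r₁ a, r₂ a))
    (hs : Function.Surjective fun b : B₁ × B₂ => q₁ b.1 - q₂ b.2)
    (he : ∀ b₁ b₂, q₁ b₁ = q₂ b₂ ↔ ∃ a, r₁ a = b₁ ∧ r₂ a = b₂) :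
    Function.Injective (fun z : G ⊗[R] A => (r₁.lTensor G z, r₂.lTensor G z)) ∧
      Function.Surjective (fun p : (G ⊗[R] B₁) × (G ⊗[R] B₂) =>
        q₁.lTensor G p.1 - q₂.lTensor G p.2) ∧
      ∀ p₁ p₂, q₁.lTensor G p₁ = q₂.lTensor G p₂ ↔
        ∃ z, r₁.lTensor G z = p₁ ∧ r₂.lTensor G z = p₂ := by
  let r : A →ₗ[R] B₁ × B₂ := r₁.prod r₂
  let q : B₁ × B₂ →ₗ[R] C := q₁.comp (LinearMap.fst R B₁ B₂) - q₂.comp (LinearMap.snd R B₁ B₂)
  let e := TensorProduct.prodRight R R G B₁ B₂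
  have hex : Function.Exact r q := fun b =>
    Iff.trans sub_eq_zero ((he b.1 b.2).trans
      (exists_congr fun a => Iff.symm (Prod.ext_iff (x := r a) (y := b))))
  have hre : ∀ z, e (r.lTensor G z) = (r₁.lTensor G z, r₂.lTensor G z) := by
    intro z
    induction z using TensorProduct.induction_on with
    | zero => simp only [map_zero]; rfl
    | tmul a m => simp [e, r]
    | add x y hx hy => simp only [map_add, hx, hy]; rfl
  have hqe : ∀ w, q.lTensor G w = q₁.lTensor G (e w).1 - q₂.lTensor G (e w).2 := by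
    intro w
    induction w using TensorProduct.induction_on with
    | zero => simp
    | tmul a m => simp [e, q]
    | add x y hx hy => simp only [map_add, hx, hy, Prod.fst_add, Prod.snd_add]; abel
  refine ⟨fun z z' h => ?_, fun y => ?_, fun p₁ p₂ => ?_⟩
  · exact Module.Flat.lTensor_preserves_injective_linearMap r hi
      (e.injective (((hre z).trans h).trans (hre z').symm))
  · obtain ⟨w, hw⟩ := LinearMap.lTensor_surjective G (g := q) hs y
    exact ⟨e w, (hqe w).symm.trans hw⟩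
  · rw [← sub_eq_zero]
    constructor
    · intro h
      obtain ⟨z, hz⟩ := (Module.Flat.lTensor_exact G hex (e.symm (p₁, p₂))).1
        (by rw [hqe, LinearEquiv.apply_symm_apply]; exact h)
      have h2 := hre z
      rw [hz, LinearEquiv.apply_symm_apply] at h2
      exact ⟨z, (congrArg Prod.fst h2).symm, (congrArg Prod.snd h2).symm⟩
    · rintro ⟨z, rfl, rfl⟩
      have h := (Module.Flat.lTensor_exact G hex).apply_apply_eq_zero z
      rw [hqe, hre] at h
      exact h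

end Algebra

section Product

variable {A K L C : CochainComplex AddCommGrpCat.{u} ℕ}

/-- The product of two complexes of abelian groups. -/
noncomputable def prodCx (K L : CochainComplex AddCommGrpCat.{u} ℕ) :
    CochainComplex AddCommGrpCat.{u} ℕ where
  X n := AddCommGrpCat.of (K.X n × L.X n)
  d i j := AddCommGrpCat.ofHom ((K.d i j).hom.prodMap (L.d i j).hom)
  shape i j h := by
    ext x
    · exact congr($(K.shape i j h) x.1)
    · exact congr($(L.shape i j h) x.2)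
  d_comp_d' i j k _ _ := by
    ext x
    · exact congr($(K.d_comp_d i j k) x.1)
    · exact congr($(L.d_comp_d i j k) x.2)

/-- A map to the product. -/
noncomputable def prodLiftCx (α : A ⟶ K) (β : A ⟶ L) : A ⟶ prodCx K L where
  f n := AddCommGrpCat.ofHom ((α.f n).hom.prod (β.f n).hom)
  comm' i j _ := by
    ext x
    refine Prod.ext ?_ ?_
    · exact congr($(α.comm i j) x)
    · exact congr($(β.comm i j) x)

/-- The difference map out of the product. -/
noncomputable def prodSubCx (α : K ⟶ C) (β : L ⟶ C) : prodCx K L ⟶ C where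
  f n := AddCommGrpCat.ofHom
    ((α.f n).hom.comp (AddMonoidHom.fst _ _) - (β.f n).hom.comp (AddMonoidHom.snd _ _))
  comm' i j _ := by
    ext x
    change C.d i j (α.f i x.1 - β.f i x.2) = α.f j (K.d i j x.1) - β.f j (L.d i j x.2)
    rw [map_sub]
    exact congrArg₂ (· - ·) (congr($(α.comm i j) x.1)) (congr($(β.comm i j) x.2))

/-- The product of two maps. -/
noncomputable def prodMapCx {K' L' : CochainComplex AddCommGrpCat.{u} ℕ} (α : K ⟶ K')
    (β : L ⟶ L') : prodCx K L ⟶ prodCx K' L' where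
  f n := AddCommGrpCat.ofHom ((α.f n).hom.prodMap (β.f n).hom)
  comm' i j _ := by
    ext x
    refine Prod.ext ?_ ?_
    · exact congr($(α.comm i j) x.1)
    · exact congr($(β.comm i j) x.2)

lemma mem_bd_prod {n : ℕ} {x : (prodCx K L).X n} :
    x ∈ bd (prodCx K L) n ↔ x.1 ∈ bd K n ∧ x.2 ∈ bd L n := by
  cases n with
  | zero =>
    rw [mem_bd_zero, mem_bd_zero, mem_bd_zero]
    exact Prod.ext_iff
  | succ n =>
    constructor
    · rintro ⟨w, rfl⟩
      exact ⟨⟨w.1, rfl⟩, ⟨w.2, rfl⟩⟩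
    · rintro ⟨⟨u, hu⟩, ⟨v, hv⟩⟩
      exact ⟨(u, v), Prod.ext hu hv⟩

lemma QI.prod {K' L' : CochainComplex AddCommGrpCat.{u} ℕ} {α : K ⟶ K'} {β : L ⟶ L'}
    (hα : QI α) (hβ : QI β) : QI (prodMapCx α β) where
  inj n z hz h := by
    rw [mem_bd_prod] at h ⊢
    exact ⟨hα.inj n z.1 (congrArg Prod.fst hz :) h.1, hβ.inj n z.2 (congrArg Prod.snd hz :) h.2⟩
  surj n t ht := by
    obtain ⟨z₁, h₁, h₁'⟩ := hα.surj n t.1 (congrArg Prod.fst ht :)
    obtain ⟨z₂, h₂, h₂'⟩ := hβ.surj n t.2 (congrArg Prod.snd ht :)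
    exact ⟨(z₁, z₂), Prod.ext h₁ h₂, mem_bd_prod.2 ⟨h₁', h₂'⟩⟩

/-- The five lemma for Mayer–Vietoris sequences. -/
theorem QI.mayerVietoris {A' K' L' C' : CochainComplex AddCommGrpCat.{u} ℕ}
    (r₁ : A ⟶ K) (r₂ : A ⟶ L) (q₁ : K ⟶ C) (q₂ : L ⟶ C)
    (r₁' : A' ⟶ K') (r₂' : A' ⟶ L') (q₁' : K' ⟶ C') (q₂' : L' ⟶ C')
    (a : A ⟶ A') (k : K ⟶ K') (l : L ⟶ L') (c : C ⟶ C')
    (h : ∀ n, Function.Injective (fun x => (r₁.f n x, r₂.f n x)) ∧
      Function.Surjective (fun p : K.X n × L.X n => q₁.f n p.1 - q₂.f n p.2) ∧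
      ∀ p₁ p₂, q₁.f n p₁ = q₂.f n p₂ ↔ ∃ x, r₁.f n x = p₁ ∧ r₂.f n x = p₂)
    (h' : ∀ n, Function.Injective (fun x => (r₁'.f n x, r₂'.f n x)) ∧
      Function.Surjective (fun p : K'.X n × L'.X n => q₁'.f n p.1 - q₂'.f n p.2) ∧
      ∀ p₁ p₂, q₁'.f n p₁ = q₂'.f n p₂ ↔ ∃ x, r₁'.f n x = p₁ ∧ r₂'.f n x = p₂)
    (e₁ : ∀ n x, k.f n (r₁.f n x) = r₁'.f n (a.f n x))
    (e₂ : ∀ n x, l.f n (r₂.f n x) = r₂'.f n (a.f n x))
    (e₃ : ∀ n x, c.f n (q₁.f n x) = q₁'.f n (k.f n x))
    (e₄ : ∀ n x, c.f n (q₂.f n x) = q₂'.f n (l.f n x))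
    (hk : QI k) (hl : QI l) (hc : QI c) : QI a :=
  QI.five (prodLiftCx r₁ r₂) (prodSubCx q₁ q₂) (prodLiftCx r₁' r₂') (prodSubCx q₁' q₂')
    a (prodMapCx k l) c (fun n => (h n).1) (fun n => (h' n).1) (fun n => (h n).2.1)
    (fun n => (h' n).2.1)
    (fun n p => Iff.trans sub_eq_zero (((h n).2.2 p.1 p.2).trans
      (exists_congr fun x => (Prod.ext_iff (x := ((r₁.f n x, r₂.f n x) : K.X n × L.X n))
        (y := p)).symm)))
    (fun n p => Iff.trans sub_eq_zero (((h' n).2.2 p.1 p.2).trans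
      (exists_congr fun x => (Prod.ext_iff (x := ((r₁'.f n x, r₂'.f n x) : K'.X n × L'.X n))
        (y := p)).symm)))
    (fun n x => Prod.ext (e₁ n x) (e₂ n x))
    (fun n x => (map_sub (c.f n).hom (q₁.f n x.1) (q₂.f n x.2)).trans
      (congrArg₂ (· - ·) (e₃ n x.1) (e₄ n x.2)))
    (QI.prod hk hl) hc

end Product

section Sec

variable {X S : Scheme.{u}}

/-- Mayer–Vietoris for sections of a flasque module. -/
theorem sec_mv (F : X.Modules)
    (hF : ∀ (A B : X.Opens) (h : B ≤ A), Function.Surjective (QCohMod.res F h)) {U W T O : X.Opens}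
    (hT : T = U ⊔ W) (hO : O = U ⊓ W) (h₁ : U ≤ T) (h₂ : W ≤ T) (h₃ : O ≤ U) (h₄ : O ≤ W) :
    Function.Injective (fun s => (QCohMod.res F h₁ s, QCohMod.res F h₂ s)) ∧
      Function.Surjective (fun p : Γ(F, U) × Γ(F, W) => QCohMod.res F h₃ p.1 - QCohMod.res F h₄ p.2) ∧
      ∀ p₁ p₂, QCohMod.res F h₃ p₁ = QCohMod.res F h₄ p₂ ↔ ∃ s, QCohMod.res F h₁ s = p₁ ∧ QCohMod.res F h₂ s = p₂ := by
  subst hT hO
  refine ⟨fun s t h => eq_of_sup F s t (congrArg Prod.fst h) (congrArg Prod.snd h), fun y => ?_,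
    fun p₁ p₂ => ⟨fun h => exists_glue_sup F p₁ p₂ h, ?_⟩⟩
  · obtain ⟨z, rfl⟩ := hF U _ h₃ y
    refine ⟨(z, 0), ?_⟩
    change QCohMod.res F h₃ z - QCohMod.res F h₄ 0 = _
    rw [map_zero, sub_zero]
  · rintro ⟨s, rfl, rfl⟩
    rw [QCohMod.res_res, QCohMod.res_res]

variable (f : X ⟶ S) {V : S.Opens}

/-- Restriction, as a linear map over the base. -/
noncomputable def secModRes (M : X.Modules) {U U₂ : X.Opens} (eU : U ≤ f ⁻¹ᵁ V)
    (eU₂ : U₂ ≤ f ⁻¹ᵁ V) (h : U₂ ≤ U) : secMod f M eU →ₗ[Γ(S, V)] secMod f M eU₂ where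
  toFun m := (show secMod f M eU₂ from QCohMod.res M h (show Γ(M, U) from m))
  map_add' := map_add (QCohMod.res M h)
  map_smul' r m := by
    change QCohMod.res M h (f.appLE V U eU r • (show Γ(M, U) from m)) =
      f.appLE V U₂ eU₂ r • QCohMod.res M h (show Γ(M, U) from m)
    rw [res_smul, resFun_appLE f eU eU₂ le_rfl h, Groth.QCohMod.resFun_self]

lemma secModRes_map {M M' : X.Modules} (φ : M ⟶ M') {U U₂ : X.Opens} (eU : U ≤ f ⁻¹ᵁ V)
    (eU₂ : U₂ ≤ f ⁻¹ᵁ V) (h : U₂ ≤ U) :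
    (secModMap f φ eU₂).comp (secModRes f M eU eU₂ h) =
      (secModRes f M' eU eU₂ h).comp (secModMap f φ eU) :=
  LinearMap.ext fun m => (res_app φ h m).symm

/-- Sections over an open, as a functor. -/
noncomputable def ev (W : X.Opens) : X.Modules ⥤ AddCommGrpCat.{u} where
  obj M := Γ(M, W)
  map φ := φ.app W

instance (W : X.Opens) : (ev W).Additive where

/-- The complex of sections of a resolution. -/
noncomputable abbrev evCx {M : X.Modules} (J : InjectiveResolution M) (W : X.Opens) :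
    CochainComplex AddCommGrpCat.{u} ℕ :=
  ((ev W).mapHomologicalComplex (ComplexShape.up ℕ)).obj J.cocomplex

/-- Restriction of complexes of sections. -/
noncomputable def evRes {M : X.Modules} (J : InjectiveResolution M) {W W₂ : X.Opens}
    (h : W₂ ≤ W) : evCx J W ⟶ evCx J W₂ where
  f n := AddCommGrpCat.ofHom (QCohMod.res (J.cocomplex.X n) h)
  comm' i j _ := by
    ext z
    exact (res_app (J.cocomplex.d i j) h z).symm

lemma mem_bd_evCx {M : X.Modules} (J : InjectiveResolution M) (W : X.Opens) (n : ℕ)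
    (z : Γ(J.cocomplex.X n, W)) :
    (show (evCx J W).X n from z) ∈ bd (evCx J W) n ↔ z ∈ (Res.ofInjective J).Bd W n := by
  cases n with
  | zero => exact mem_bd_zero.trans (Res.mem_bd_zero (R := Res.ofInjective J)).symm
  | succ n => exact Iff.rfl

variable {S' : Scheme.{u}} (g : S' ⟶ S) (G : S'.Modules) {V' : S'.Opens} (e : V' ≤ g ⁻¹ᵁ V)

/-- `M ↦ Γ(G, V') ⊗ Γ(M, U)`. -/
noncomputable def tF {U : X.Opens} (eU : U ≤ f ⁻¹ᵁ V) : X.Modules ⥤ AddCommGrpCat.{u} where
  obj M := AddCommGrpCat.of (secMod g G e ⊗[Γ(S, V)] secMod f M eU)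
  map φ := AddCommGrpCat.ofHom ((secModMap f φ eU).lTensor (secMod g G e)).toAddMonoidHom
  map_id M := by
    ext z
    exact DFunLike.congr_fun ((congrArg (LinearMap.lTensor _)
      (show secModMap f (𝟙 M) eU = LinearMap.id from rfl)).trans (LinearMap.lTensor_id _ _)) z
  map_comp φ ψ := by
    ext z
    exact DFunLike.congr_fun ((congrArg (LinearMap.lTensor _)
      (show secModMap f (φ ≫ ψ) eU = (secModMap f ψ eU).comp (secModMap f φ eU) from rfl)).trans
        (LinearMap.lTensor_comp _ _ _)) z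

instance {U : X.Opens} (eU : U ≤ f ⁻¹ᵁ V) : (tF f g G e eU).Additive where
  map_add {M N φ ψ} := by
    ext z
    exact DFunLike.congr_fun ((congrArg (LinearMap.lTensor _)
      (show secModMap f (φ + ψ) eU = secModMap f φ eU + secModMap f ψ eU from rfl)).trans
        (LinearMap.lTensor_add _ _ _)) z

/-- The tensored complex of sections. -/
noncomputable abbrev tenCx {M : X.Modules} (I : InjectiveResolution M) {U : X.Opens}
    (eU : U ≤ f ⁻¹ᵁ V) : CochainComplex AddCommGrpCat.{u} ℕ :=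
  ((tF f g G e eU).mapHomologicalComplex (ComplexShape.up ℕ)).obj I.cocomplex

/-- Restriction of tensored complexes. -/
noncomputable def tenCxRes {M : X.Modules} (I : InjectiveResolution M) {U U₂ : X.Opens}
    (eU : U ≤ f ⁻¹ᵁ V) (eU₂ : U₂ ≤ f ⁻¹ᵁ V) (h : U₂ ≤ U) :
    tenCx f g G e I eU ⟶ tenCx f g G e I eU₂ where
  f n := AddCommGrpCat.ofHom
    ((secModRes f (I.cocomplex.X n) eU eU₂ h).lTensor (secMod g G e)).toAddMonoidHom
  comm' i j _ := by
    ext z
    change (secModMap f (I.cocomplex.d i j) eU₂).lTensor _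
        ((secModRes f _ eU eU₂ h).lTensor _ z) =
      (secModRes f _ eU eU₂ h).lTensor _ ((secModMap f (I.cocomplex.d i j) eU).lTensor _ z)
    rw [← LinearMap.lTensor_comp_apply, ← LinearMap.lTensor_comp_apply, secModRes_map]

end Sec

end Groth.CohBase.FlatBC
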