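import Groth.Agent.CohBase.FlatBC.TauAffine
import Groth.Agent.CohBase.FlatBC.SecCx
import Groth.Agent.CohBase.FlatBC.QCQS
import Groth.Agent.Ega2Proj.AffineBC

/-! Flat base change of sections over quasi-compact quasi-separated preimages, and of the direct image
through the adjunction map. -/

set_option autoImplicit false

universe u

open CategoryTheory Limits AlgebraicGeometry TopologicalSpace Opposite
open scoped TensorProduct

namespace Groth.CohBase.FlatBC.SecZero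

section Algebra

variable {R : Type u} [CommRing R] {G A B₁ B₂ C : Type u} [AddCommGroup G] [Module R G]
  [AddCommGroup A] [Module R A] [AddCommGroup B₁] [Module R B₁] [AddCommGroup B₂] [Module R B₂]
  [AddCommGroup C] [Module R C] {A' B₁' B₂' C' : Type u} [AddCommGroup A'] [AddCommGroup B₁']
  [AddCommGroup B₂'] [AddCommGroup C']

/-- Left exact sequences after tensoring with a flat module: the four lemma. -/
theorem four [Module.Flat R G] (r₁ : A →ₗ[R] B₁) (r₂ : A →ₗ[R] B₂) (q₁ : B₁ →ₗ[R] C) (q₂ : B₂ →ₗ[R] C)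
    (hi : Function.Injective fun a => (r₁ a, r₂ a))
    (he : ∀ b₁ b₂, q₁ b₁ = q₂ b₂ ↔ ∃ a, r₁ a = b₁ ∧ r₂ a = b₂)
    (r₁' : A' →+ B₁') (r₂' : A' →+ B₂') (q₁' : B₁' →+ C') (q₂' : B₂' →+ C')
    (hi' : Function.Injective fun a => (r₁' a, r₂' a)) (he' : ∀ a, q₁' (r₁' a) = q₂' (r₂' a))
    (tA : G ⊗[R] A →+ A') (t₁ : G ⊗[R] B₁ →+ B₁') (t₂ : G ⊗[R] B₂ →+ B₂') (tC : G ⊗[R] C →+ C')
    (e₁ : ∀ z, t₁ (r₁.lTensor G z) = r₁' (tA z)) (e₂ : ∀ z, t₂ (r₂.lTensor G z) = r₂' (tA z))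
    (e₃ : ∀ z, tC (q₁.lTensor G z) = q₁' (t₁ z)) (e₄ : ∀ z, tC (q₂.lTensor G z) = q₂' (t₂ z))
    (h₁ : Function.Bijective t₁) (h₂ : Function.Bijective t₂) (hC : Function.Injective tC) :
    Function.Bijective tA := by
  let r : A →ₗ[R] B₁ × B₂ := r₁.prod r₂
  let q : B₁ × B₂ →ₗ[R] C := q₁.comp (LinearMap.fst R B₁ B₂) - q₂.comp (LinearMap.snd R B₁ B₂)
  let e := TensorProduct.prodRight R R G B₁ B₂
  have hex : Function.Exact r q := fun b =>
    Iff.trans sub_eq_zero ((he b.1 b.2).trans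
      (exists_congr fun a => Iff.symm (Prod.ext_iff (x := r a) (y := b))))
  have hre : ∀ z, e (r.lTensor G z) = (r₁.lTensor G z, r₂.lTensor G z) := by
    intro z
    induction z using TensorProduct.induction_on with
    | zero => simp only [map_zero]; rfl
    | tmul a m => simp [e, r]
    | add x y hx hy => simp only [map_add, hx, hy]; rfl
  have hqe : ∀ w, q.lTensor G w = q₁.lTensor G (e w).1 - q₂.lTensor G (e w).2 := by
    intro w
    induction w using TensorProduct.induction_on with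
    | zero => simp
    | tmul a m => simp [e, q]
    | add x y hx hy => simp only [map_add, hx, hy, Prod.fst_add, Prod.snd_add]; abel
  constructor
  · intro z z' h
    have g₁ : r₁.lTensor G z = r₁.lTensor G z' := h₁.1 (by rw [e₁, e₁, h])
    have g₂ : r₂.lTensor G z = r₂.lTensor G z' := h₂.1 (by rw [e₂, e₂, h])
    refine Module.Flat.lTensor_preserves_injective_linearMap r hi (e.injective ?_)
    rw [hre, hre, g₁, g₂]
  · intro a'
    obtain ⟨p₁, hp₁⟩ := h₁.2 (r₁' a')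
    obtain ⟨p₂, hp₂⟩ := h₂.2 (r₂' a')
    have hp : q₁.lTensor G p₁ = q₂.lTensor G p₂ := hC (by rw [e₃, e₄, hp₁, hp₂, he'])
    obtain ⟨z, hz⟩ := (Module.Flat.lTensor_exact G hex (e.symm (p₁, p₂))).1
      (by rw [hqe, LinearEquiv.apply_symm_apply, sub_eq_zero]; exact hp)
    have h3 := hre z
    rw [hz, LinearEquiv.apply_symm_apply] at h3
    refine ⟨z, hi' (Prod.ext ?_ ?_)⟩
    · show r₁' (tA z) = r₁' a'
      rw [← e₁]
      exact (congrArg t₁ (congrArg Prod.fst h3 :)).symm.trans hp₁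
    · show r₂' (tA z) = r₂' a'
      rw [← e₂]
      exact (congrArg t₂ (congrArg Prod.snd h3 :)).symm.trans hp₂

end Algebra


variable {X S X' S' : Scheme.{u}} {f : X ⟶ S} {g : S' ⟶ S} {g' : X' ⟶ X} {f' : X' ⟶ S'}
  {V : S.Opens} {V' : S'.Opens}

/-- Functions on `V'`, as a module over the functions on `V`. -/
noncomputable abbrev fnMod (g : S' ⟶ S) (e : V' ≤ g ⁻¹ᵁ V) : ModuleCat.{u} Γ(S, V) :=
  (ModuleCat.restrictScalars (g.appLE V V' e).hom).obj (ModuleCat.of Γ(S', V') Γ(S', V'))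

variable (w : g' ≫ f = f' ≫ g) (e : V' ≤ g ⁻¹ᵁ V) (M : X.Modules)
  {U : X.Opens} (eU : U ≤ f ⁻¹ᵁ V) {U' : X'.Opens} (e₁ : U' ≤ g' ⁻¹ᵁ U) (e₂ : U' ≤ f' ⁻¹ᵁ V')

/-- `b, m ↦ b • g'^* m`. -/
noncomputable def bm : Γ(S', V') →+ Γ(M, U) →+ Γ((Scheme.Modules.pullback g').obj M, U') :=
  AddMonoidHom.mk' (fun b => AddMonoidHom.mk'
      (fun m => f'.appLE V' U' e₂ b • psec g' M e₁ m)
      fun m m' => by rw [map_add, smul_add])
    fun b b' => AddMonoidHom.ext fun m => by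
      show f'.appLE V' U' e₂ (b + b') • psec g' M e₁ m =
        f'.appLE V' U' e₂ b • psec g' M e₁ m + f'.appLE V' U' e₂ b' • psec g' M e₁ m
      rw [map_add, add_smul]

include w in
theorem appLE_eq (r : Γ(S, V)) :
    g'.appLE U U' e₁ (f.appLE V U eU r) = f'.appLE V' U' e₂ (g.appLE V V' e r) := by
  have h : f.appLE V U eU ≫ g'.appLE U U' e₁ = g.appLE V V' e ≫ f'.appLE V' U' e₂ := by
    rw [Scheme.Hom.appLE_comp_appLE, Scheme.Hom.appLE_comp_appLE]
    congr 1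
  exact congr($h r)

/-- The comparison map. -/
noncomputable def T : (fnMod g e) ⊗[Γ(S, V)] secMod f M eU →+
    Γ((Scheme.Modules.pullback g').obj M, U') :=
  TensorProduct.liftAddHom (bm M e₁ e₂) fun r b m => by
    show f'.appLE V' U' e₂ (g.appLE V V' e r * (show Γ(S', V') from b)) • psec g' M e₁ (show Γ(M, U) from m) =
      f'.appLE V' U' e₂ (show Γ(S', V') from b) • psec g' M e₁ (f.appLE V U eU r • (show Γ(M, U) from m))
    rw [psec_smul, map_mul, mul_smul, appLE_eq w e eU e₁ e₂, ← mul_smul, ← mul_smul, mul_comm]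

theorem T_tmul (b : fnMod g e) (m : secMod f M eU) :
    T w e M eU e₁ e₂ (b ⊗ₜ m) =
      f'.appLE V' U' e₂ (show Γ(S', V') from b) • psec g' M e₁ (show Γ(M, U) from m) := rfl

theorem T_res {U₂ : X.Opens} (eU₂ : U₂ ≤ f ⁻¹ᵁ V) (h : U₂ ≤ U) {U'₂ : X'.Opens}
    (b₁ : U'₂ ≤ g' ⁻¹ᵁ U₂) (b₂ : U'₂ ≤ f' ⁻¹ᵁ V') (h' : U'₂ ≤ U') (z) :
    T w e M eU₂ b₁ b₂ ((secModRes f M eU eU₂ h).lTensor (fnMod g e) z) =
      QCohMod.res _ h' (T w e M eU e₁ e₂ z) := by
  induction z using TensorProduct.induction_on with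
  | zero => simp
  | tmul b m =>
    rw [LinearMap.lTensor_tmul, T_tmul, T_tmul]
    refine Eq.trans ?_ (QCohMod.res_smul _ h' _ _).symm
    rw [psec_res g' M e₁ b₁ h h']
    congr 1
    exact congr($((Scheme.Hom.appLE_map f' e₂ (homOfLE h').op)) (show Γ(S', V') from b)).symm
  | add x y hx hy => simp only [map_add, hx, hy]

variable (V V')

/-- The predicate of the induction. -/
def BC (U : X.Opens) : Prop :=
  ∀ (eU : U ≤ f ⁻¹ᵁ V) (U' : X'.Opens) (e₁ : U' ≤ g' ⁻¹ᵁ U) (e₂ : U' ≤ f' ⁻¹ᵁ V'),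
    U' = g' ⁻¹ᵁ U ⊓ f' ⁻¹ᵁ V' → Function.Bijective (T w e M eU e₁ e₂)

variable {V V'}

theorem bc_affine [M.IsQuasicoherent] (sq : IsPullback g' f' f g) (hV : IsAffineOpen V)
    (hV' : IsAffineOpen V') {U : X.Opens} (hU : IsAffineOpen U) : BC V V' w e M U := by
  intro eU U' e₁ e₂ hU'
  have hU'a : IsAffineOpen U' := isAffineOpen_prod sq hU' hV hV' hU e eU
  have hiso := isIso_pushoutSection_of_isAffineOpen sq (US := V) (UT := V') (UX := U)
    (UY := U') e eU hU' hV hV' hU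
  have hpo := ((isIso_pushoutSection_iff sq (US := V) (UT := V') (UX := U) (UY := U')
    e eU hU').1 hiso).flip
  letI algRS := Groth.QCohMod.sectionsAlg g e
  letI algRA := Groth.QCohMod.sectionsAlg f eU
  letI algSB := Groth.QCohMod.sectionsAlg f' e₂
  letI algAB := Groth.QCohMod.sectionsAlg g' e₁
  letI algRB : Algebra Γ(S, V) Γ(X', U') := (g.appLE V V' e ≫ f'.appLE V' U' e₂).hom.toAlgebra
  haveI : IsScalarTower Γ(S, V) Γ(S', V') Γ(X', U') := IsScalarTower.of_algebraMap_eq fun _ => rfl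
  haveI : IsScalarTower Γ(S, V) Γ(X, U) Γ(X', U') :=
    IsScalarTower.of_algebraMap_eq fun r => (appLE_eq w e eU e₁ e₂ r).symm
  haveI : Algebra.IsPushout Γ(S, V) Γ(S', V') Γ(X, U) Γ(X', U') :=
    CommRingCat.isPushout_iff_isPushout.1 hpo
  letI modN : Module Γ(X, U) Γ((Scheme.Modules.pullback g').obj M, U') :=
    Module.compHom _ (g'.appLE U U' e₁).hom
  haveI : IsScalarTower Γ(X, U) Γ(X', U') Γ((Scheme.Modules.pullback g').obj M, U') :=
    IsScalarTower.of_algebraMap_smul fun _ _ => rfl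
  refine Groth.Ega2Proj.AffBC.bijective_of_pushout (R := Γ(S, V)) (S := Γ(S', V')) (A := Γ(X, U))
    (B := Γ(X', U')) (M₀ := secMod f M eU) (M := Γ(M, U))
    (N := Γ((Scheme.Modules.pullback g').obj M, U'))
    (P := Γ(S', V') ⊗[Γ(S, V)] secMod f M eU)
    (AddEquiv.refl _) (fun r m => rfl) _
    (Groth.LocFree.isBaseChange_pullSecₗ g' M e₁ hU hU'a)
    _ (TensorProduct.isBaseChange Γ(S, V) (secMod f M eU) Γ(S', V'))
    (T w e M eU e₁ e₂) (fun s p => ?_) (fun m => ?_)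
  · let T' : (Γ(S', V') ⊗[Γ(S, V)] secMod f M eU) →+ Γ((Scheme.Modules.pullback g').obj M, U') :=
      T w e M eU e₁ e₂
    have hT' : ∀ (b : Γ(S', V')) (m : secMod f M eU),
        T' (b ⊗ₜ m) = f'.appLE V' U' e₂ b • psec g' M e₁ (show Γ(M, U) from m) := fun _ _ => rfl
    show T' (s • p) = f'.appLE V' U' e₂ s • T' p
    induction p using TensorProduct.induction_on with
    | zero => simp only [smul_zero, map_zero]
    | tmul b m => rw [TensorProduct.smul_tmul', hT', hT', smul_eq_mul, map_mul, mul_smul]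
    | add x y hx hy => simp only [smul_add, map_add, hx, hy]
  · show f'.appLE V' U' e₂ (1 : Γ(S', V')) • psec g' M e₁ (show Γ(M, U) from m) = _
    rw [map_one, one_smul]
    rfl

theorem bc_sup [Module.Flat Γ(S, V) (fnMod g e)] {U W : X.Opens} (hU : BC V V' w e M U)
    (hW : BC V V' w e M W) (hUW : BC V V' w e M (U ⊓ W)) : BC V V' w e M (U ⊔ W) := by
  intro eT T' e₁ e₂ hT'
  have eU : U ≤ f ⁻¹ᵁ V := le_sup_left.trans eT
  have eW : W ≤ f ⁻¹ᵁ V := le_sup_right.trans eT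
  have eO : U ⊓ W ≤ f ⁻¹ᵁ V := inf_le_left.trans eU
  have hT₂ : T' = (g' ⁻¹ᵁ U ⊓ f' ⁻¹ᵁ V') ⊔ (g' ⁻¹ᵁ W ⊓ f' ⁻¹ᵁ V') := by
    rw [hT', Scheme.Hom.preimage_sup, inf_sup_right]
  have hO₂ : g' ⁻¹ᵁ (U ⊓ W) ⊓ f' ⁻¹ᵁ V' =
      (g' ⁻¹ᵁ U ⊓ f' ⁻¹ᵁ V') ⊓ (g' ⁻¹ᵁ W ⊓ f' ⁻¹ᵁ V') := by
    rw [Scheme.Hom.preimage_inf, inf_inf_distrib_right]
  have b₁ : g' ⁻¹ᵁ U ⊓ f' ⁻¹ᵁ V' ≤ T' := le_sup_left.trans hT₂.ge
  have b₂ : g' ⁻¹ᵁ W ⊓ f' ⁻¹ᵁ V' ≤ T' := le_sup_right.trans hT₂.ge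
  have b₃ : g' ⁻¹ᵁ (U ⊓ W) ⊓ f' ⁻¹ᵁ V' ≤ g' ⁻¹ᵁ U ⊓ f' ⁻¹ᵁ V' := hO₂.le.trans inf_le_left
  have b₄ : g' ⁻¹ᵁ (U ⊓ W) ⊓ f' ⁻¹ᵁ V' ≤ g' ⁻¹ᵁ W ⊓ f' ⁻¹ᵁ V' := hO₂.le.trans inf_le_right
  refine four (secModRes f M eT eU le_sup_left) (secModRes f M eT eW le_sup_right)
    (secModRes f M eU eO inf_le_left) (secModRes f M eW eO inf_le_right)
    (fun s t h => eq_of_sup M s t (congrArg Prod.fst h) (congrArg Prod.snd h))
    (fun p₁ p₂ => ⟨fun h => exists_glue_sup M p₁ p₂ h, ?_⟩)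
    (QCohMod.res _ b₁) (QCohMod.res _ b₂) (QCohMod.res _ b₃) (QCohMod.res _ b₄) ?_ (fun a => ?_)
    (T w e M eT e₁ e₂) (T w e M eU inf_le_left inf_le_right) (T w e M eW inf_le_left inf_le_right)
    (T w e M eO inf_le_left inf_le_right)
    (fun z => T_res w e M _ _ _ _ _ _ _ b₁ z) (fun z => T_res w e M _ _ _ _ _ _ _ b₂ z)
    (fun z => T_res w e M _ _ _ _ _ _ _ b₃ z) (fun z => T_res w e M _ _ _ _ _ _ _ b₄ z)
    (hU eU _ _ _ rfl) (hW eW _ _ _ rfl) (hUW eO _ _ _ rfl).1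
  · rintro ⟨s, rfl, rfl⟩
    show QCohMod.res M inf_le_left (QCohMod.res M le_sup_left s) = QCohMod.res M inf_le_right (QCohMod.res M le_sup_right s)
    rw [QCohMod.res_res, QCohMod.res_res]
  · revert b₁ b₂
    rw [hT₂]
    intro b₁ b₂ s t h
    exact eq_of_sup _ s t (congrArg Prod.fst h) (congrArg Prod.snd h)
  · rw [QCohMod.res_res, QCohMod.res_res]

theorem bc_preimage [M.IsQuasicoherent] (sq : IsPullback g' f' f g) (hV : IsAffineOpen V)
    (hV' : IsAffineOpen V') [Flat g] [QuasiCompact f] [QuasiSeparated f] :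
    BC V V' w e M (f ⁻¹ᵁ V) := by
  have : Module.Flat Γ(S, V) (fnMod g e) := Flat.flat_appLE g hV hV' e
  have : IsAffine V.toScheme := hV
  have : QuasiSeparatedSpace (f ⁻¹ᵁ V).toScheme := quasiSeparatedSpace_of_quasiSeparated (f ∣_ V)
  have hq : IsQuasiSeparated ((f ⁻¹ᵁ V : X.Opens) : Set X) :=
    (isQuasiSeparated_iff_quasiSeparatedSpace ((f ⁻¹ᵁ V : X.Opens) : Set X) (f ⁻¹ᵁ V).2).mpr this
  exact qcqs_induction_on (BC V V' w e M) _ hq
    (fun U hU _ => bc_affine w e M sq hV hV' hU)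
    (fun U W _ _ _ _ h₁ h₂ h₃ => bc_sup w e M h₁ h₂ h₃) _
    (QuasiCompact.isCompact_preimage _ V.2 hV.isCompact) le_rfl

open Groth.PicAux in
/-- The adjunction map of flat base change is bijective on affine sections. -/
theorem bijective_app (sq : IsPullback g' f' f g) [Flat g] [QuasiCompact f] [QuasiSeparated f]
    [M.IsQuasicoherent]
    (β : (Scheme.Modules.pullback g).obj ((Scheme.Modules.pushforward f).obj M) ⟶ (Scheme.Modules.pushforward f').obj ((Scheme.Modules.pullback g').obj M))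
    (hβ : ∀ (U : S.Opens) (V : S'.Opens) (e : V ≤ g ⁻¹ᵁ U) (e' : f' ⁻¹ᵁ V ≤ g' ⁻¹ᵁ (f ⁻¹ᵁ U))
      (m : Γ(M, f ⁻¹ᵁ U)),
      β.app V (Groth.PicAux.res _ e (pullSec g ((Scheme.Modules.pushforward f).obj M) (U := U) m)) =
        Groth.PicAux.res _ e' (pullSec g' M m))
    (hV : IsAffineOpen V) (hV' : IsAffineOpen V') (e : V' ≤ g ⁻¹ᵁ V) :
    Function.Bijective (β.app V') := by
  have e' : f' ⁻¹ᵁ V' ≤ g' ⁻¹ᵁ (f ⁻¹ᵁ V) := by
    rw [← Scheme.Hom.comp_preimage, sq.w, Scheme.Hom.comp_preimage]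
    exact f'.preimage_mono e
  have hT := bc_preimage sq.w e M sq hV hV' le_rfl (f' ⁻¹ᵁ V') e' le_rfl (inf_eq_right.2 e').symm
  haveI := Groth.QCohMod.isQCoh_pushforward M f
  letI algRS := Groth.QCohMod.sectionsAlg g e
  letI modP : Module Γ(S, V) Γ((Scheme.Modules.pullback g).obj ((Scheme.Modules.pushforward f).obj M), V') :=
    Module.compHom _ (g.appLE V V' e).hom
  haveI : IsScalarTower Γ(S, V) Γ(S', V') Γ((Scheme.Modules.pullback g).obj ((Scheme.Modules.pushforward f).obj M), V') :=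
    IsScalarTower.of_algebraMap_smul fun _ _ => rfl
  have ha := Groth.LocFree.isBaseChange_pullSecₗ g ((Scheme.Modules.pushforward f).obj M) e hV hV'
  let ι : secMod f M (le_refl (f ⁻¹ᵁ V)) ≃ₗ[Γ(S, V)] Γ((Scheme.Modules.pushforward f).obj M, V) :=
    { toFun := fun m => m
      invFun := fun m => m
      left_inv := fun _ => rfl
      right_inv := fun _ => rfl
      map_add' := fun _ _ => rfl
      map_smul' := fun r m => by
        show f.appLE V (f ⁻¹ᵁ V) le_rfl r • (show Γ(M, f ⁻¹ᵁ V) from m) = f.app V r • (show Γ(M, f ⁻¹ᵁ V) from m)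
        rw [Scheme.Hom.app_eq_appLE] }
  let φ := (TensorProduct.AlgebraTensorModule.congr (LinearEquiv.refl Γ(S', V') Γ(S', V')) ι).trans ha.equiv
  let T' : (Γ(S', V') ⊗[Γ(S, V)] secMod f M (le_refl (f ⁻¹ᵁ V))) →+
      Γ((Scheme.Modules.pullback g').obj M, f' ⁻¹ᵁ V') := T sq.w e M le_rfl e' le_rfl
  have key : ∀ z, β.app V' (φ z) = T' z := fun z => by
    induction z using TensorProduct.induction_on with
    | zero => exact ((congrArg _ (map_zero φ)).trans (map_zero (β.app V').hom)).trans (map_zero T').symm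
    | tmul b m =>
      show β.app V' (ha.equiv (b ⊗ₜ ι m)) = _
      rw [IsBaseChange.equiv_tmul, Scheme.Modules.Hom.app_smul]
      exact congrArg₂ (fun (a : Γ(X', f' ⁻¹ᵁ V')) (x : Γ((Scheme.Modules.pullback g').obj M, f' ⁻¹ᵁ V')) => a • x)
        (congr($(Scheme.Hom.app_eq_appLE f' (U := V')) (show Γ(S', V') from b))) (hβ V V' e e' m)
    | add x y hx hy =>
      exact ((congrArg _ (map_add φ x y)).trans (map_add (β.app V').hom _ _)).trans
        ((congrArg₂ (· + ·) hx hy).trans (map_add T' x y).symm)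
  rw [← Function.Bijective.of_comp_iff _ φ.bijective]
  have h2 : Function.Bijective T' := hT
  rw [show (⇑(β.app V').hom ∘ ⇑φ) = ⇑T' from funext key]
  exact h2

end Groth.CohBase.FlatBC.SecZero
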