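import Groth.Agent.QCohMod.Tensor
import Groth.Agent.QCohMod.Coherent
import Groth.Agent.QCohMod.PullbackSections
import Groth.Agent.DerivedCoh.KFlat.SchemeStalk
import Groth.Agent.PicAux.TensorLift
import Groth.Agent.Flatmor4.FlatModAffine
import Mathlib.AlgebraicGeometry.Morphisms.Flat

/-!
# Sections of `P ⊗ h^* M` from sections of `P` and of `M`
-/

universe u

open CategoryTheory Limits AlgebraicGeometry TopologicalSpace Opposite
open scoped TensorProduct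
open Groth.PicAux (tmulSec pullSec pullSec_smul res_pullSec pullSec_map ptenUnit)
open Groth.QCohMod (res resFun res_app res_res res_self res_smul sectionsAlg)

namespace Groth.CohBase.FlatBC

variable {X S Z : Scheme.{u}}

/-- `M ↦ P ⊗ h^* M`. -/
noncomputable abbrev tPull (h : Z ⟶ X) (P : Z.Modules) : X.Modules ⥤ Z.Modules :=
  Scheme.Modules.pullback h ⋙ (DCoh.tensorBi (X := Z)).obj P

/-- Sections as a module over the functions on an open of the base. -/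
noncomputable abbrev secMod (f : X ⟶ S) (M : X.Modules) {U : X.Opens} {V : S.Opens}
    (e : U ≤ f ⁻¹ᵁ V) : ModuleCat.{u} Γ(S, V) :=
  (ModuleCat.restrictScalars (f.appLE V U e).hom).obj (ModuleCat.of Γ(X, U) Γ(M, U))

section TSec

variable (h : Z ⟶ X) (P : Z.Modules) (M : X.Modules) {U : X.Opens} {W : Z.Opens} (e : W ≤ h ⁻¹ᵁ U)

/-- The restricted inverse image of a section. -/
noncomputable def psec : Γ(M, U) →+ Γ((Scheme.Modules.pullback h).obj M, W) :=
  (res _ e).comp (AddMonoidHom.mk' (fun m => pullSec h M m) fun a b =>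
    map_add (((Scheme.Modules.pullbackPushforwardAdjunction h).unit.app M).app U).hom a b)

lemma psec_apply (m : Γ(M, U)) : psec h M e m = res _ e (pullSec h M m) := rfl

lemma psec_smul (r : Γ(X, U)) (m : Γ(M, U)) :
    psec h M e (r • m) = h.appLE U W e r • psec h M e m := by
  rw [psec_apply, psec_apply, pullSec_smul]
  exact res_smul _ e _ _

lemma psec_map {M' : X.Modules} (φ : M ⟶ M') (m : Γ(M, U)) :
    ((Scheme.Modules.pullback h).map φ).app W (psec h M e m) = psec h M' e (φ.app U m) := by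
  rw [psec_apply, psec_apply, ← pullSec_map]
  exact (res_app _ e _).symm

lemma psec_res {U₂ : X.Opens} {W₂ : Z.Opens} (e₂ : W₂ ≤ h ⁻¹ᵁ U₂) (hU : U₂ ≤ U) (hW : W₂ ≤ W)
    (m : Γ(M, U)) : res _ hW (psec h M e m) = psec h M e₂ (res M hU m) := by
  rw [psec_apply, psec_apply, res_res]
  refine Eq.trans ?_ (congrArg (res _ e₂) (res_pullSec h M hU m))
  exact (res_res _ _ _ _).symm

/-- `a, m ↦ a ⊗ h^* m`. -/
noncomputable def tSec : Γ(P, W) →+ Γ(M, U) →+ Γ((tPull h P).obj M, W) :=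
  AddMonoidHom.mk' (fun a => AddMonoidHom.mk'
      (fun m => (show Γ((tPull h P).obj M, W) from tmulSec a (psec h M e m)))
      fun m m' => (congrArg (tmulSec a) (map_add (psec h M e) m m')).trans
        (Groth.PicAux.tmulSec_add_right a _ _))
    fun a a' => AddMonoidHom.ext fun _ => Groth.PicAux.tmulSec_add_left a a' _

lemma tSec_apply (a : Γ(P, W)) (m : Γ(M, U)) :
    tSec h P M e a m = (show Γ((tPull h P).obj M, W) from tmulSec a (psec h M e m)) := rfl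

lemma tSec_smul_left (r : Γ(Z, W)) (a : Γ(P, W)) (m : Γ(M, U)) :
    tSec h P M e (r • a) m = r • tSec h P M e a m :=
  Groth.PicAux.tmulSec_smul_left r a _

lemma tSec_slide (r : Γ(X, U)) (a : Γ(P, W)) (m : Γ(M, U)) :
    tSec h P M e a (r • m) = tSec h P M e (h.appLE U W e r • a) m := by
  rw [tSec_apply, tSec_apply, psec_smul, Groth.PicAux.tmulSec_smul_right,
    ← Groth.PicAux.tmulSec_smul_left]

lemma tSec_map {M' : X.Modules} (φ : M ⟶ M') (a : Γ(P, W)) (m : Γ(M, U)) :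
    ((tPull h P).map φ).app W (tSec h P M e a m) = tSec h P M' e a (φ.app U m) := by
  rw [tSec_apply, tSec_apply, ← psec_map]
  exact DerivedCoh.KFlat.tensorMap_tmulSec P ((Scheme.Modules.pullback h).map φ) W a _

lemma tSec_res {U₂ : X.Opens} {W₂ : Z.Opens} (e₂ : W₂ ≤ h ⁻¹ᵁ U₂) (hU : U₂ ≤ U) (hW : W₂ ≤ W)
    (a : Γ(P, W)) (m : Γ(M, U)) :
    res _ hW (tSec h P M e a m) = tSec h P M e₂ (res P hW a) (res M hU m) := by
  rw [tSec_apply, tSec_apply, ← psec_res h M e e₂ hU hW]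
  exact Groth.PicAux.res_tmulSec hW a _

/-- `Γ(P, W) ⊗ Γ(M, U) → Γ(P ⊗ h^* M, W)`. -/
noncomputable def tSecLift : secMod h P e ⊗[Γ(X, U)] Γ(M, U) →+ Γ((tPull h P).obj M, W) :=
  TensorProduct.liftAddHom (tSec h P M e) fun r a m => (tSec_slide h P M e r a m).symm

lemma tSecLift_tmul (a : secMod h P e) (m : Γ(M, U)) :
    tSecLift h P M e (a ⊗ₜ m) = tSec h P M e a m := rfl

theorem tSecLift_bijective [P.IsQuasicoherent] [M.IsQuasicoherent] (hU : IsAffineOpen U)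
    (hW : IsAffineOpen W) : Function.Bijective (tSecLift h P M e) := by
  have := QCohMod.isQCoh_pullback_obj h M
  let := sectionsAlg h e
  let : Module Γ(Z, W) (secMod h P e) := inferInstanceAs (Module Γ(Z, W) Γ(P, W))
  have : IsScalarTower Γ(X, U) Γ(Z, W) (secMod h P e) := .of_algebraMap_smul fun _ _ => rfl
  let e₁ : secMod h P e ⊗[Γ(X, U)] Γ(M, U) ≃+
      Γ(P, W) ⊗[Γ(Z, W)] (Γ(Z, W) ⊗[Γ(X, U)] Γ(M, U)) :=
    (TensorProduct.AlgebraTensorModule.cancelBaseChange Γ(X, U) Γ(Z, W) Γ(Z, W) (secMod h P e)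
      Γ(M, U)).symm.toAddEquiv
  let e₂ : Γ(P, W) ⊗[Γ(Z, W)] (Γ(Z, W) ⊗[Γ(X, U)] Γ(M, U)) ≃+
      Γ(P, W) ⊗[Γ(Z, W)] Γ((Scheme.Modules.pullback h).obj M, W) :=
    (LinearEquiv.lTensor Γ(P, W) (LinearEquiv.ofBijective (QCohMod.pullSecTensor h M e)
      (QCohMod.pullSecTensor_bijective h M e hU hW))).toAddEquiv
  have key : ∀ z, tSecLift h P M e z =
      ptenUnit P ((Scheme.Modules.pullback h).obj M) W (e₂ (e₁ z)) := by
    intro z
    induction z using TensorProduct.induction_on with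
    | zero => simp only [map_zero]; rfl
    | tmul a m =>
      change tmulSec (show Γ(P, W) from a) (psec h M e m) =
        tmulSec (show Γ(P, W) from a) (QCohMod.pullSecTensor h M e ((1 : Γ(Z, W)) ⊗ₜ m))
      rw [QCohMod.pullSecTensor_tmul, one_smul]
      rfl
    | add p q hp hq => simp only [map_add, hp, hq]; rfl
  rw [show (tSecLift h P M e : _ → _) =
    ptenUnit P ((Scheme.Modules.pullback h).obj M) W ∘ e₂ ∘ e₁ from funext key]
  exact (QCohMod.ptenUnit_bijective hW).comp (e₂.bijective.comp e₁.bijective)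

end TSec

section Tau

variable {X' S' : Scheme.{u}} {f : X ⟶ S} {g : S' ⟶ S} {g' : X' ⟶ X} {f' : X' ⟶ S'}
  (w : g' ≫ f = f' ≫ g) (G : S'.Modules) (M : X.Modules) {V : S.Opens} {V' : S'.Opens}
  (e : V' ≤ g ⁻¹ᵁ V) {U : X.Opens} (eU : U ≤ f ⁻¹ᵁ V) {U' : X'.Opens} (e₁ : U' ≤ g' ⁻¹ᵁ U)
  (e₂ : U' ≤ f' ⁻¹ᵁ V')

include w in
lemma appLE_sq (r : Γ(S, V)) :
    f'.appLE V' U' e₂ (g.appLE V V' e r) = g'.appLE U U' e₁ (f.appLE V U eU r) := by
  rw [← CommRingCat.comp_apply, ← CommRingCat.comp_apply, Scheme.Hom.appLE_comp_appLE,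
    Scheme.Hom.appLE_comp_appLE]
  simp only [w]

/-- `Γ(G, V') ⊗ Γ(M, U) → Γ(f'^* G ⊗ g'^* M, U')`. -/
noncomputable def τ : secMod g G e ⊗[Γ(S, V)] secMod f M eU →+
    Γ((tPull g' ((Scheme.Modules.pullback f').obj G)).obj M, U') :=
  TensorProduct.liftAddHom
    ((tSec g' ((Scheme.Modules.pullback f').obj G) M e₁).comp (psec f' G e₂) :
      Γ(G, V') →+ Γ(M, U) →+ _)
    fun r a m => by
      change tSec g' _ M e₁ (psec f' G e₂ (g.appLE V V' e r • (show Γ(G, V') from a)))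
          (show Γ(M, U) from m) =
        tSec g' _ M e₁ (psec f' G e₂ (show Γ(G, V') from a))
          (f.appLE V U eU r • (show Γ(M, U) from m))
      rw [psec_smul, tSec_slide, appLE_sq w e eU e₁ e₂]

lemma τ_tmul (a : secMod g G e) (m : secMod f M eU) :
    τ w G M e eU e₁ e₂ (a ⊗ₜ m) =
      tSec g' _ M e₁ (psec f' G e₂ (show Γ(G, V') from a)) (show Γ(M, U) from m) := rfl

/-- The linear map on sections induced by a morphism. -/
noncomputable def secModMap (f : X ⟶ S) {M M' : X.Modules} (φ : M ⟶ M') {U : X.Opens}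
    {V : S.Opens} (e : U ≤ f ⁻¹ᵁ V) : secMod f M e →ₗ[Γ(S, V)] secMod f M' e :=
  ((ModuleCat.restrictScalars (f.appLE V U e).hom).map (ModuleCat.ofHom (QCohMod.appₗ φ U))).hom

lemma secModMap_apply (f : X ⟶ S) {M M' : X.Modules} (φ : M ⟶ M') {U : X.Opens}
    {V : S.Opens} (e : U ≤ f ⁻¹ᵁ V) (m : secMod f M e) :
    secModMap f φ e m = φ.app U (show Γ(M, U) from m) := rfl

lemma τ_map {M' : X.Modules} (φ : M ⟶ M') (z : secMod g G e ⊗[Γ(S, V)] secMod f M eU) :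
    ((tPull g' ((Scheme.Modules.pullback f').obj G)).map φ).app U' (τ w G M e eU e₁ e₂ z) =
      τ w G M' e eU e₁ e₂ ((secModMap f φ eU).lTensor (secMod g G e) z) := by
  induction z using TensorProduct.induction_on with
  | zero => simp
  | tmul a m => exact tSec_map g' _ M e₁ φ _ _
  | add p q hp hq => simp only [map_add, hp, hq]

end Tau

section Res

variable (f : X ⟶ S) (g : Z ⟶ S) (G : Z.Modules) (M : X.Modules)
  {V V₂ : S.Opens} {W W₂ : Z.Opens} {U U₂ : X.Opens}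
  (e : W ≤ g ⁻¹ᵁ V) (e₂ : W₂ ≤ g ⁻¹ᵁ V₂) (eU : U ≤ f ⁻¹ᵁ V) (eU₂ : U₂ ≤ f ⁻¹ᵁ V₂)
  (hV : V₂ ≤ V) (hW : W₂ ≤ W) (hU : U₂ ≤ U)

lemma resFun_appLE (r : Γ(S, V)) :
    resFun X hU (f.appLE V U eU r) = f.appLE V₂ U₂ eU₂ (resFun S hV r) := by
  change (f.appLE V U eU ≫ X.presheaf.map _) r = (S.presheaf.map _ ≫ f.appLE V₂ U₂ eU₂) r
  rw [Scheme.Hom.appLE_map, Scheme.Hom.map_appLE]

/-- Restriction of tensors of sections. -/
noncomputable def tenRes : secMod g G e ⊗[Γ(S, V)] secMod f M eU →+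
    secMod g G e₂ ⊗[Γ(S, V₂)] secMod f M eU₂ :=
  TensorProduct.liftAddHom
    (AddMonoidHom.mk' (fun a => AddMonoidHom.mk'
        (fun m => (show secMod g G e₂ from res G hW (show Γ(G, W) from a)) ⊗ₜ[Γ(S, V₂)]
          (show secMod f M eU₂ from res M hU (show Γ(M, U) from m)))
        fun m m' => by
          rw [← TensorProduct.tmul_add]
          exact congrArg _ (map_add (res M hU) _ _))
      fun a a' => AddMonoidHom.ext fun m => by
        refine Eq.trans ?_ (TensorProduct.add_tmul _ _ _)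
        exact congrArg (· ⊗ₜ _) (map_add (res G hW) _ _))
    fun r a m => by
      change (show secMod g G e₂ from res G hW (g.appLE V W e r • (show Γ(G, W) from a))) ⊗ₜ _ =
        _ ⊗ₜ[Γ(S, V₂)] (show secMod f M eU₂ from res M hU (f.appLE V U eU r • (show Γ(M, U) from m)))
      rw [res_smul, res_smul, resFun_appLE g e e₂ hV hW, resFun_appLE f eU eU₂ hV hU]
      exact TensorProduct.smul_tmul (resFun S hV r) _ _

lemma tenRes_tmul (a : secMod g G e) (m : secMod f M eU) :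
    tenRes f g G M e e₂ eU eU₂ hV hW hU (a ⊗ₜ m) =
      (show secMod g G e₂ from res G hW (show Γ(G, W) from a)) ⊗ₜ
        (show secMod f M eU₂ from res M hU (show Γ(M, U) from m)) := rfl

end Res

section TauRes

variable {X' S' : Scheme.{u}} {f : X ⟶ S} {g : S' ⟶ S} {g' : X' ⟶ X} {f' : X' ⟶ S'}
  (w : g' ≫ f = f' ≫ g) (G : S'.Modules) (M : X.Modules) {V V₂ : S.Opens} {V' V'₂ : S'.Opens}
  (e : V' ≤ g ⁻¹ᵁ V) (e₂ : V'₂ ≤ g ⁻¹ᵁ V₂) {U U₂ : X.Opens} (eU : U ≤ f ⁻¹ᵁ V)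
  (eU₂ : U₂ ≤ f ⁻¹ᵁ V₂) {U' U'₂ : X'.Opens} (a₁ : U' ≤ g' ⁻¹ᵁ U) (a₂ : U' ≤ f' ⁻¹ᵁ V')
  (b₁ : U'₂ ≤ g' ⁻¹ᵁ U₂) (b₂ : U'₂ ≤ f' ⁻¹ᵁ V'₂)
  (hV : V₂ ≤ V) (hV' : V'₂ ≤ V') (hU : U₂ ≤ U) (hU' : U'₂ ≤ U')

lemma τ_res (z : secMod g G e ⊗[Γ(S, V)] secMod f M eU) :
    res _ hU' (τ w G M e eU a₁ a₂ z) =
      τ w G M e₂ eU₂ b₁ b₂ (tenRes f g G M e e₂ eU eU₂ hV hV' hU z) := by
  induction z using TensorProduct.induction_on with
  | zero => simp
  | tmul a m =>
    rw [τ_tmul, tenRes_tmul, τ_tmul, tSec_res g' _ M a₁ b₁ hU hU']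
    exact congrArg (fun q => tSec g' _ M b₁ q _) (psec_res f' G a₂ b₂ hV' hU' _)
  | add p q hp hq => simp only [map_add, hp, hq]

end TauRes

end Groth.CohBase.FlatBC
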